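import Groth.Agent.Misc5Disp.Core

set_option autoImplicit false

universe u v

namespace Groth.Misc5Disp

open WittVector W4c1extbt610 Dieu

variable {p : ℕ} [hp : Fact p.Prime] {S R : Type u} [CommRing S] [CommRing R]
variable {P : Type v} [AddCommGroup P] [Module (WittVector p S) P]
variable (f : S →+* R)

local notation "fr" => WittVector.frobenius
local notation "wm" => WittVector.map

/-- `x ↦ 1 ⊗ Φ x`, linearised to `P_R` -/
noncomputable def bcSemi (Φ : P →ₛₗ[(fr : WittVector p S →+* WittVector p S)] P) :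
    BC (wm f : WittVector p S →+* WittVector p R) P →ₛₗ[(fr : WittVector p R →+* WittVector p R)]
      BC (wm f : WittVector p S →+* WittVector p R) P :=
  liftSemi (fr : WittVector p R →+* WittVector p R)
    { toFun := fun x => BC.tmul (wm f : WittVector p S →+* WittVector p R) 1 (Φ x)
      map_add' := fun x y => by rw [map_add, BC.tmul_add]
      map_smul' := fun a x => by rw [map_smulₛₗ, tmul_smul, RingHom.comp_apply, map_frobenius'] }

@[simp] theorem bcSemi_tmul (Φ : P →ₛₗ[(fr : WittVector p S →+* WittVector p S)] P) (w : WittVector p R) (x : P) :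
    bcSemi f Φ (BC.tmul _ w x) = BC.tmul _ (fr w) (Φ x) := by
  rw [bcSemi, liftSemi_tmul]
  change fr w • BC.tmul _ 1 (Φ x) = _
  rw [BC.smul_tmul, mul_one]

theorem span_bcSemi {Φ : P →ₛₗ[(fr : WittVector p S →+* WittVector p S)] P}
    (hΦ : Submodule.span (WittVector p S) (Set.range Φ) = ⊤) :
    Submodule.span (WittVector p R) (Set.range (bcSemi f Φ)) = ⊤ := by
  rw [eq_top_iff, ← span_ι_eq_top, Submodule.span_le]
  rintro _ ⟨x, rfl⟩
  have hx : x ∈ Submodule.span (WittVector p S) (Set.range Φ) := by rw [hΦ]; trivial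
  induction hx using Submodule.span_induction with
  | mem y hy =>
    obtain ⟨z, rfl⟩ := hy
    exact Submodule.subset_span ⟨BC.tmul _ 1 z, by simp⟩
  | zero => rw [map_zero]; exact zero_mem _
  | add a c _ _ h₁ h₂ => rw [map_add]; exact add_mem h₁ h₂
  | smul a c _ h => rw [map_smulₛₗ]; exact Submodule.smul_mem _ _ h

theorem map_map_fixed {π : P →ₗ[WittVector p S] P} (hπ : ∀ x, π (π x) = π x)
    (z : BC (wm f : WittVector p S →+* WittVector p R) P) :
    BC.map _ π (BC.map _ π z) = BC.map _ π z := by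
  induction z using BC.induction_on _ with
  | zero => simp
  | tmul w x => rw [BC.map_tmul, BC.map_tmul, hπ]
  | add a b ha hb => rw [map_add, map_add, ha, hb]

variable [Module.Finite (WittVector p S) P] [Module.Projective (WittVector p S) P]
variable (π : P →ₗ[WittVector p S] P) (hπ : ∀ x, π (π x) = π x)
variable (Φ : P →ₛₗ[(fr : WittVector p S →+* WittVector p S)] P)
variable (hΦ : Submodule.span (WittVector p S) (Set.range Φ) = ⊤)

/-- base change of a display `mk` -/
noncomputable def bcMk : Display3n p R (BC (wm f : WittVector p S →+* WittVector p R) P) :=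
  haveI := bc_finite (g := (wm f : WittVector p S →+* WittVector p R)) (P := P)
  haveI := bc_projective (g := (wm f : WittVector p S →+* WittVector p R)) (P := P)
  mk (BC.map _ π) (map_map_fixed f hπ) (bcSemi f Φ) (span_bcSemi f hΦ)

omit [Module.Finite (WittVector p S) P] [Module.Projective (WittVector p S) P] in
theorem bcQuotMap_smul_eq_zero (Q : Submodule (WittVector p S) P)
    (z : IVP p R (BC (wm f : WittVector p S →+* WittVector p R) P)) :
    bcQuotMap f Q (z : BC (wm f : WittVector p S →+* WittVector p R) P) = 0 := by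
  induction z using IVP_induction with
  | gen w x =>
    simp only [map_smulₛₗ]
    change (verschiebung w).coeff 0 • bcQuotMap f Q x = 0
    rw [verschiebung_coeff_zero, zero_smul]
  | add a b ha hb => simp only [Submodule.coe_add, map_add, ha, hb, add_zero]

theorem bcMk_Q : (bcMk f π hπ Φ hΦ).Q = LinearMap.ker (bcQuotMap f (qOf π)) := by
  have := bc_finite (g := (wm f : WittVector p S →+* WittVector p R)) (P := P)
  have := bc_projective (g := (wm f : WittVector p S →+* WittVector p R)) (P := P)
  show qOf (BC.map _ π) = _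
  refine le_antisymm (fun z hz => ?_) (fun z hz => ?_)
  · rw [LinearMap.mem_ker, ← add_sub_cancel (BC.map _ π z) z, map_add,
      bcQuotMap_smul_eq_zero f _ ⟨_, mem_qOf _ |>.1 hz⟩, add_zero]
    clear hz
    induction z using BC.induction_on _ with
    | zero => simp
    | tmul w x =>
      rw [BC.map_tmul, bcQuotMap_tmul, Submodule.mkQ_apply, (Submodule.Quotient.mk_eq_zero _).2, BC.tmul_zero]
      simp [mem_qOf, hπ]
    | add a b ha hb => rw [map_add, map_add, ha, hb, add_zero]
  · rw [LinearMap.mem_ker] at hz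
    rw [mem_qOf]
    obtain ⟨n, φ, e, he⟩ := exists_dualBasis (A := WittVector p S) (P := P)
    rw [mem_smul_top_iff_of_dualBasis (fun i => bcFun _ (φ i)) _ (bc_dualBasis φ e he)]
    intro i
    let ψ₀ : P →ₛₗ[(WittVector.constantCoeff : WittVector p R →+* R).comp (wm f)] R :=
      { toFun := fun x => WittVector.constantCoeff (wm f (φ i (x - π x)))
        map_add' := fun x y => by rw [map_add π, add_sub_add_comm, map_add, map_add, map_add]
        map_smul' := fun a x => by
          rw [map_smul π, ← smul_sub, map_smul, smul_eq_mul, map_mul, map_mul, RingHom.comp_apply, smul_eq_mul] }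
    have hψ : qOf π ≤ LinearMap.ker ψ₀ := by
      intro x hx
      rw [LinearMap.mem_ker]
      change WittVector.constantCoeff (wm f (φ i (x - π x))) = 0
      have h1 := (mem_smul_top_iff_of_dualBasis φ e he (IV p S) _).1 (mem_qOf π |>.1 hx) i
      exact mem_IV_iff.1 (map_mem_IV f h1)
    have key : ∀ y, BC.lift _ ((qOf π).liftQ ψ₀ hψ) (bcQuotMap f (qOf π) y) =
        WittVector.constantCoeff (bcFun _ (φ i) (y - BC.map _ π y)) := by
      intro y
      induction y using BC.induction_on _ with
      | zero => simp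
      | tmul w x =>
        rw [bcQuotMap_tmul, BC.lift_tmul, BC.map_tmul, map_sub, bcFun_tmul, bcFun_tmul, Submodule.mkQ_apply,
          Submodule.liftQ_apply, ← mul_sub, ← map_sub (wm f), ← map_sub (φ i), map_mul]
        rfl
      | add a b ha hb => simp only [map_add, ha, hb, add_sub_add_comm]
    rw [mem_IV_iff]
    change WittVector.constantCoeff _ = 0
    rw [← key z, hz, map_zero]

theorem bcMk_F_tmul (w : WittVector p R) (x : P) :
    (bcMk f π hπ Φ hΦ).F (BC.tmul _ w x) =
      BC.tmul (wm f : WittVector p S →+* WittVector p R) (fr w) ((mk π hπ Φ hΦ).F x) := by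
  have := bc_finite (g := (wm f : WittVector p S →+* WittVector p R)) (P := P)
  have := bc_projective (g := (wm f : WittVector p S →+* WittVector p R)) (P := P)
  show fOf (BC.map _ π) (bcSemi f Φ) _ = _
  rw [fOf_apply, mk_F, fOf_apply, BC.tmul_add, tmul_smul, map_natCast, BC.map_tmul, bcSemi_tmul,
    map_sub, bcSemi_tmul, bcSemi_tmul, map_sub Φ, sub_eq_add_neg (Φ x), BC.tmul_add, BC.tmul_neg, ← sub_eq_add_neg]

theorem bcMk_gMap (w : WittVector p R) (z : IVP p S P)
    (h : BC.tmul (wm f : WittVector p S →+* WittVector p R) w (z : P) ∈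
      IVP p R (BC (wm f : WittVector p S →+* WittVector p R) P)) :
    haveI := bc_finite (g := (wm f : WittVector p S →+* WittVector p R)) (P := P)
    haveI := bc_projective (g := (wm f : WittVector p S →+* WittVector p R)) (P := P)
    gMap (bcSemi f Φ) ⟨_, h⟩ = BC.tmul (wm f : WittVector p S →+* WittVector p R) (fr w) (gMap Φ z) := by
  have := bc_finite (g := (wm f : WittVector p S →+* WittVector p R)) (P := P)
  have := bc_projective (g := (wm f : WittVector p S →+* WittVector p R)) (P := P)
  induction z using IVP_induction with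
  | gen a x =>
    simp only [tmul_smul, map_V] at h ⊢
    rw [gMap_V_smul, gMap_V_smul, bcSemi_tmul, tmul_smul]
  | add a b ha hb =>
    have ha' : BC.tmul (wm f : WittVector p S →+* WittVector p R) w (a : P) ∈ IVP p R _ :=
      tmul_mem_smul_top_right (fun c hc => map_mem_IV f hc) w a.2
    have hb' : BC.tmul (wm f : WittVector p S →+* WittVector p R) w (b : P) ∈ IVP p R _ :=
      tmul_mem_smul_top_right (fun c hc => map_mem_IV f hc) w b.2
    rw [map_add, BC.tmul_add, ← ha ha', ← hb hb', ← map_add]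
    congr 1
    exact Subtype.ext (by simp [BC.tmul_add])

theorem bcMk_isDispBaseChange :
    IsDispBaseChange f (mk π hπ Φ hΦ) (bcMk f π hπ Φ hΦ) where
  Q_eq := bcMk_Q f π hπ Φ hΦ
  F_tmul := bcMk_F_tmul f π hπ Φ hΦ
  Vinv_tmul := by
    have := bc_finite (g := (wm f : WittVector p S →+* WittVector p R)) (P := P)
    have := bc_projective (g := (wm f : WittVector p S →+* WittVector p R)) (P := P)
    rintro w ⟨y, hy⟩ h
    refine (vinvOf_apply (BC.map _ π) (bcSemi f Φ) _ h).trans ?_
    rw [mk_Vinv_apply, BC.tmul_add]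
    congr 1
    · rw [BC.map_tmul, bcSemi_tmul]
    · rw [← bcMk_gMap f Φ w ⟨y - π y, hy⟩ (tmul_mem_smul_top_right (fun c hc => map_mem_IV f hc) w hy)]
      congr 1
      exact Subtype.ext (by simp [sub_eq_add_neg, BC.tmul_add, BC.tmul_neg])
  Vinv_verschiebung_tmul := by
    intro w x h
    have e : BC.tmul (wm f : WittVector p S →+* WittVector p R) (verschiebung w) x = verschiebung w • BC.tmul _ 1 x :=
      BC.tmul_eq_smul_tmul_one _ _ _
    have := (bcMk f π hπ Φ hΦ).Vinv_verschiebung_smul w (BC.tmul _ 1 x)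
    refine (Eq.trans (congrArg _ (Subtype.ext e)) this).trans ?_
    rw [bcMk_F_tmul, map_one, BC.smul_tmul, mul_one]

omit [Module.Finite (WittVector p S) P] [Module.Projective (WittVector p S) P] in
theorem isDispBaseChange_unique (D : Display3n p S P)
    {DR DR' : Display3n p R (BC (wm f : WittVector p S →+* WittVector p R) P)}
    (h : IsDispBaseChange f D DR) (h' : IsDispBaseChange f D DR') : DR = DR' := by
  have hF : DR.F = DR'.F := semilinear_ext fun x => by rw [h.F_tmul, h'.F_tmul]
  have := D.finite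
  have := D.projective
  obtain ⟨π, hπ, Φ, hΦ, hD⟩ := exists_mk D
  have hQD : D.Q = qOf π := congrArg Display3n.Q hD
  have hb := bcMk_Q f π hπ Φ hΦ
  rw [← hQD, ← h.Q_eq] at hb
  have hbQ : DR.Q = qOf (BC.map (wm f : WittVector p S →+* WittVector p R) π) := hb.symm
  refine display_ext (h.Q_eq.trans h'.Q_eq.symm) fun z hz hz' => ?_
  have hI : z - BC.map _ π z ∈ IVP p R (BC (wm f : WittVector p S →+* WittVector p R) P) := mem_qOf _ |>.1 (hbQ ▸ hz)
  have hmem : ∀ y, BC.map (wm f : WittVector p S →+* WittVector p R) π y ∈ DR.Q := fun y => by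
    rw [hbQ, mem_qOf, map_map_fixed f hπ, sub_self]; exact zero_mem _
  have hmem' : ∀ y, BC.map (wm f : WittVector p S →+* WittVector p R) π y ∈ DR'.Q := fun y =>
    (h.Q_eq.trans h'.Q_eq.symm) ▸ hmem y
  have h1 : ∀ y, DR.Vinv ⟨_, hmem y⟩ = DR'.Vinv ⟨_, hmem' y⟩ := by
    intro y
    induction y using BC.induction_on _ with
    | zero => simp only [map_zero]; exact (map_zero DR.Vinv).trans (map_zero DR'.Vinv).symm
    | tmul w x =>
      have hx : π x ∈ D.Q := by rw [hQD, mem_qOf, hπ, sub_self]; exact zero_mem _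
      simp only [BC.map_tmul]
      exact (h.Vinv_tmul w ⟨π x, hx⟩ _).trans (h'.Vinv_tmul w ⟨π x, hx⟩ _).symm
    | add a b ha hb =>
      simp only [map_add]
      exact ((map_add DR.Vinv ⟨_, hmem a⟩ ⟨_, hmem b⟩).trans (congrArg₂ (· + ·) ha hb)).trans
        (map_add DR'.Vinv ⟨_, hmem' a⟩ ⟨_, hmem' b⟩).symm
  have h2 : ∀ y : IVP p R (BC (wm f : WittVector p S →+* WittVector p R) P),
      DR.Vinv ⟨y, DR.IV_smul_le y.2⟩ = DR'.Vinv ⟨y, DR'.IV_smul_le y.2⟩ := by
    intro y
    induction y using IVP_induction with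
    | gen w x => rw [DR.Vinv_verschiebung_smul, DR'.Vinv_verschiebung_smul, hF]
    | add a b ha hb =>
      exact ((map_add DR.Vinv ⟨_, DR.IV_smul_le a.2⟩ ⟨_, DR.IV_smul_le b.2⟩).trans (congrArg₂ (· + ·) ha hb)).trans
        (map_add DR'.Vinv ⟨_, DR'.IV_smul_le a.2⟩ ⟨_, DR'.IV_smul_le b.2⟩).symm
  have e : (⟨z, hz⟩ : DR.Q) = ⟨_, hmem z⟩ + ⟨_, DR.IV_smul_le hI⟩ := Subtype.ext (add_sub_cancel _ _).symm
  have e' : (⟨z, hz'⟩ : DR'.Q) = ⟨_, hmem' z⟩ + ⟨_, DR'.IV_smul_le hI⟩ := Subtype.ext (add_sub_cancel _ _).symm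
  rw [e, e', map_add, map_add]
  exact congrArg₂ (· + ·) (h1 z) (h2 ⟨_, hI⟩)

omit [Module.Finite (WittVector p S) P] [Module.Projective (WittVector p S) P] in
theorem existsUnique_baseChange (D : Display3n p S P) :
    ∃! DR : Display3n p R (BC (wm f : WittVector p S →+* WittVector p R) P), IsDispBaseChange f D DR := by
  have := D.finite
  have := D.projective
  obtain ⟨π, hπ, Φ, hΦ, hD⟩ := exists_mk D
  refine ⟨bcMk f π hπ Φ hΦ, ?_, fun DR' h => isDispBaseChange_unique f D h ?_⟩ <;>
  · rw [hD]; exact bcMk_isDispBaseChange f π hπ Φ hΦ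

end Groth.Misc5Disp
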