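import Groth.Agent.Misc5Disp.Iterate
import Groth.Agent.Misc5Disp.BaseChange

set_option autoImplicit false

universe u v

namespace Groth.Misc5Disp

open WittVector W4c1extbt610 Dieu

variable {p : ℕ} [hp : Fact p.Prime] {S R : Type u} [CommRing S] [CommRing R]
variable {P : Type v} [AddCommGroup P] [Module (WittVector p S) P]
variable (f : S →+* R)

local notation "fr" => WittVector.frobenius
local notation "wm" => WittVector.map

theorem map_frN (n : ℕ) (a : WittVector p S) : wm f (frN p S n a) = frN p R n (wm f a) := by
  induction n generalizing a with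
  | zero => simp [frN]
  | succ n ih =>
    have hS : frN p S (n + 1) a = fr (frN p S n a) := by rw [frN, pow_succ']; rfl
    have hR : frN p R (n + 1) (wm f a) = fr (frN p R n (wm f a)) := by rw [frN, pow_succ']; rfl
    rw [hS, hR, map_frobenius', ih]

/-- `u ⊗ x ↦ f u ⊗ (1 ⊗ x)` -/
noncomputable def theta (n : ℕ) :
    BC (frN p S n) P →ₛₗ[(wm f : WittVector p S →+* WittVector p R)]
      BC (frN p R n) (BC (wm f : WittVector p S →+* WittVector p R) P) :=
  liftSemi (wm f : WittVector p S →+* WittVector p R)
    { toFun := fun x => BC.tmul (frN p R n) 1 (BC.tmul (wm f : WittVector p S →+* WittVector p R) 1 x)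
      map_add' := fun x y => by rw [BC.tmul_add, BC.tmul_add]
      map_smul' := fun a x => by rw [tmul_smul, tmul_smul, RingHom.comp_apply, map_frN] }

@[simp] theorem theta_tmul (n : ℕ) (u : WittVector p S) (x : P) :
    theta f n (BC.tmul (frN p S n) u x) =
      BC.tmul (frN p R n) (wm f u) (BC.tmul (wm f : WittVector p S →+* WittVector p R) 1 x) := by
  rw [theta, liftSemi_tmul]
  change wm f u • BC.tmul _ 1 _ = _
  rw [BC.smul_tmul, mul_one]

theorem vSharpPow_baseChange {D : Display3n p S P}
    {DR : Display3n p R (BC (wm f : WittVector p S →+* WittVector p R) P)} (hDR : IsDispBaseChange f D DR)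
    {Vs} (hVs : IsVSharp D Vs) {VsR} (hVsR : IsVSharp DR VsR) (n : ℕ) (x : P) :
    vSharpPow VsR n (BC.tmul _ 1 x) = theta f (n + 1) (vSharpPow Vs n x) := by
  have base : ∀ x, VsR (BC.tmul _ 1 x) = BC.castHom (pow_one (fr : WittVector p R →+* WittVector p R)) (theta f 1
      (BC.castHom (pow_one (fr : WittVector p S →+* WittVector p S)).symm (Vs x))) := by
    intro x
    have hx : x ∈ Submodule.span (WittVector p S) (Set.range D.Vinv) := by rw [D.span_range_Vinv]; trivial
    induction hx using Submodule.span_induction with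
    | mem y hy =>
      obtain ⟨⟨y, hy'⟩, rfl⟩ := hy
      have hm : BC.tmul (wm f : WittVector p S →+* WittVector p R) 1 y ∈ DR.Q := by
        rw [hDR.Q_eq, LinearMap.mem_ker, bcQuotMap_tmul, Submodule.mkQ_apply, (Submodule.Quotient.mk_eq_zero _).2 hy',
          BC.tmul_zero]
      have h1 := hVsR.app_smul_Vinv 1 ⟨_, hm⟩
      rw [one_smul, hDR.Vinv_tmul 1 ⟨y, hy'⟩ hm, map_one] at h1
      have h2 := hVs.app_smul_Vinv 1 ⟨y, hy'⟩
      rw [one_smul] at h2
      rw [h1, h2]
      simp only [BC.castHom_tmul, theta_tmul, map_one]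
    | zero => simp
    | add a b _ _ ha hb => simp only [BC.tmul_add, map_add, ha, hb]
    | smul a b _ hb => simp only [tmul_smul, map_smul, hb, map_smulₛₗ, RingHom.id_apply]
  induction n generalizing x with
  | zero =>
    rw [vSharpPow_zero_apply, vSharpPow_zero_apply, base]
    generalize Vs x = z
    induction z using BC.induction_on _ with
    | zero => simp
    | tmul w y => simp only [BC.castHom_tmul, theta_tmul]
    | add a b ha hb => simp only [map_add, ha, hb]
  | succ n ih =>
    rw [vSharpPow_succ', vSharpPow_succ', base]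
    generalize Vs x = z
    induction z using BC.induction_on _ with
    | zero => simp
    | tmul w y =>
      simp only [BC.castHom_tmul, theta_tmul, stepMap_tmul, ih]
      rw [map_smulₛₗ]
      congr 1
      generalize vSharpPow Vs n y = v
      induction v using BC.induction_on _ with
      | zero => simp
      | tmul c t => rw [theta_tmul, twist_tmul, twist_tmul, theta_tmul, map_frobenius']
      | add a b ha hb => simp only [map_add, ha, hb]
    | add a b ha hb => simp only [map_add, ha, hb]

theorem isDisplay_baseChange (hpn : IsNilpotent (p : S)) {D : Display3n p S P} (hD : IsDisplay D)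
    {DR : Display3n p R (BC (wm f : WittVector p S →+* WittVector p R) P)} (hDR : IsDispBaseChange f D DR) :
    IsDisplay DR := by
  obtain ⟨Vs, hVs, n, hn⟩ := hD
  have : IsAdicComplete (Ideal.span {(p : R)}) R := isAdicComplete_of_isNilpotent (p := p) (by
    simpa using hpn.map f)
  obtain ⟨VsR, hVsR⟩ := exists_isVSharp DR
  refine ⟨VsR, hVsR, n, fun z => ?_⟩
  induction z using BC.induction_on _ with
  | zero => rw [map_zero]; exact zero_mem _
  | tmul w x =>
    rw [BC.tmul_eq_smul_tmul_one, map_smul, vSharpPow_baseChange f hDR hVs hVsR]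
    refine Submodule.smul_mem _ _ (semilinear_mem_smul_top _ (fun a ha => ?_) (hn x))
    obtain ⟨b, hb, c, hc, rfl⟩ := Submodule.mem_sup.1 ha
    obtain ⟨d, rfl⟩ := Ideal.mem_span_singleton'.1 hc
    rw [map_add, map_mul, map_natCast]
    exact Submodule.add_mem_sup (map_mem_IV f hb) (Ideal.mul_mem_left _ _ (Ideal.mem_span_singleton_self _))
  | add a b ha hb => rw [map_add]; exact add_mem ha hb

end Groth.Misc5Disp
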