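import Mathlib.RingTheory.Flat.Localization
import Mathlib.RingTheory.Flat.EquationalCriterion
import Mathlib.RingTheory.Flat.Stability
import Mathlib.RingTheory.Nakayama
import Mathlib.LinearAlgebra.Matrix.Adjugate
import Mathlib.LinearAlgebra.Dimension.OrzechProperty
import Mathlib.RingTheory.Finiteness.Basic
import Mathlib.Algebra.Module.Torsion.Basic
import Mathlib.LinearAlgebra.Dimension.Finite
import Mathlib.LinearAlgebra.FiniteDimensional.Lemmas

set_option autoImplicit false

universe u v w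

namespace Groth.Misc5Disp

variable {K : Type u} [CommRing K] {P : Type v} [AddCommGroup P] [Module K P]

theorem exists_notMem_smul_mem [Module.Finite K P] {m : Ideal K} (hm : m ≠ ⊤) {U : Submodule K P}
    (h : U ⊔ m • ⊤ = ⊤) : ∃ g, g ∉ m ∧ ∀ x, g • x ∈ U := by
  have hle : (⊤ : Submodule K (P ⧸ U)) ≤ m • ⊤ := by
    rintro z -
    obtain ⟨x, rfl⟩ := Submodule.Quotient.mk_surjective _ z
    obtain ⟨a, ha, b, hb, rfl⟩ := Submodule.mem_sup.1 (h.symm ▸ Submodule.mem_top : x ∈ U ⊔ m • ⊤)
    rw [Submodule.Quotient.mk_add, (Submodule.Quotient.mk_eq_zero U).2 ha, zero_add]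
    have h1 := Submodule.mem_map_of_mem (f := U.mkQ) hb
    rw [Submodule.map_smul'', Submodule.map_top, Submodule.range_mkQ] at h1
    exact h1
  obtain ⟨g, hg, hg'⟩ := Submodule.exists_sub_one_mem_and_smul_eq_zero_of_fg_of_le_smul m _ Module.Finite.fg_top hle
  refine ⟨g, fun hgm => hm (m.eq_top_iff_one.2 (by simpa using m.sub_mem hgm hg)), fun x => ?_⟩
  rw [← Submodule.Quotient.mk_eq_zero, Submodule.Quotient.mk_smul]
  exact hg' _ trivial

theorem mem_sup_of_span {m : Ideal K} {U : Submodule K P} {x : P}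
    (h : Submodule.Quotient.mk x ∈ U.map (m • ⊤ : Submodule K P).mkQ) : x ∈ U ⊔ m • ⊤ := by
  obtain ⟨y, hy, hyx⟩ := h
  rw [← add_sub_cancel y x]
  exact Submodule.add_mem_sup hy ((Submodule.Quotient.eq _).1 hyx.symm)

/-- lift of a residual basis of a complement of `U` -/
theorem exists_residual_frame [Module.Finite K P] (m : Ideal K) [m.IsMaximal] (U : Submodule K P)
    (hU : m • ⊤ ≤ U) :
    ∃ (n : ℕ) (e : Fin n → P), Submodule.span K (Set.range e) ⊔ U = ⊤ ∧
      ∀ c : Fin n → K, ∑ i, c i • e i ∈ U → ∀ i, c i ∈ m := by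
  letI := Ideal.Quotient.field m
  let Q := P ⧸ (m • ⊤ : Submodule K P)
  have : Module.Finite (K ⧸ m) Q := Module.Finite.of_restrictScalars_finite K _ _
  let U' : Submodule (K ⧸ m) Q :=
    { carrier := U.map (m • ⊤ : Submodule K P).mkQ
      add_mem' := fun ha hb => add_mem ha hb
      zero_mem' := zero_mem _
      smul_mem' := fun a x hx => by
        obtain ⟨a, rfl⟩ := Ideal.Quotient.mk_surjective a
        exact Submodule.smul_mem _ a hx }
  obtain ⟨W, hW⟩ := exists_isCompl U'
  let b := Module.finBasis (K ⧸ m) W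
  choose e he using fun i => Submodule.Quotient.mk_surjective (m • ⊤ : Submodule K P) (b i : Q)
  refine ⟨_, e, eq_top_iff.2 fun x _ => ?_, fun c hc => ?_⟩
  · obtain ⟨y, hy, z, hz, hyz⟩ := Submodule.mem_sup.1
      (hW.sup_eq_top.symm ▸ Submodule.mem_top : (Submodule.Quotient.mk x : Q) ∈ U' ⊔ W)
    choose c hc using fun i => Ideal.Quotient.mk_surjective (b.repr ⟨z, hz⟩ i)
    obtain ⟨y, hyU, rfl⟩ := hy
    have hzc : z = ∑ i, c i • (Submodule.Quotient.mk (e i) : Q) := by
      have h1 := congrArg Subtype.val (b.sum_repr ⟨z, hz⟩)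
      simp only [Submodule.coe_sum, Submodule.coe_smul] at h1
      refine h1.symm.trans (Finset.sum_congr rfl fun i _ => ?_)
      rw [← hc, he]
      rfl
    have h2 : x - (y + ∑ i, c i • e i) ∈ (m • ⊤ : Submodule K P) := by
      rw [← Submodule.Quotient.eq, ← hyz, hzc, Submodule.Quotient.mk_add, ← Submodule.mkQ_apply, ← Submodule.mkQ_apply,
        map_sum]
      simp only [map_smul]
      rfl
    rw [← add_sub_cancel (y + ∑ i, c i • e i) x]
    refine add_mem (add_mem (Submodule.mem_sup_right hyU) (Submodule.mem_sup_left ?_)) (Submodule.mem_sup_right (hU h2))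
    exact Submodule.sum_mem _ fun i _ => Submodule.smul_mem _ _ (Submodule.subset_span ⟨i, rfl⟩)
  · have h1 : (∑ i, Ideal.Quotient.mk m (c i) • b i : W) = 0 := by
      refine Subtype.ext ((Submodule.disjoint_def.1 hW.disjoint) _ ?_ (Submodule.coe_mem _))
      refine ⟨_, hc, ?_⟩
      rw [map_sum, Submodule.coe_sum]
      refine Finset.sum_congr rfl fun i _ => ?_
      rw [map_smul, Submodule.coe_smul, Submodule.mkQ_apply, he]
      rfl
    intro i
    exact Ideal.Quotient.eq_zero_iff_mem.1 (Fintype.linearIndependent_iff.1 b.linearIndependent _ h1 i)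

theorem exists_det_kill [Module.Projective K P] (m : Ideal K) [m.IsMaximal] {n : Type w} [Fintype n] [DecidableEq n]
    (v : n → P) (hv : Submodule.span K (Set.range v) ⊔ m • ⊤ = ⊤)
    (hli : ∀ c : n → K, ∑ i, c i • v i ∈ (m • ⊤ : Submodule K P) → ∀ i, c i ∈ m) :
    ∃ g, g ∉ m ∧ ∀ c : n → K, ∑ i, c i • v i = 0 → ∀ i, g * c i = 0 := by
  classical
  let Q := P ⧸ (m • ⊤ : Submodule K P)
  let b : Module.Basis n (K ⧸ m) Q := Module.Basis.mk (v := fun i => (Submodule.Quotient.mk (v i) : Q))
    (by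
      rw [Fintype.linearIndependent_iff]
      intro a ha i
      choose c hc using fun i => Ideal.Quotient.mk_surjective (a i)
      rw [← hc, Ideal.Quotient.eq_zero_iff_mem]
      refine hli c ?_ i
      rw [← Submodule.Quotient.mk_eq_zero, ← ha, ← Submodule.mkQ_apply, map_sum]
      refine Finset.sum_congr rfl fun i _ => ?_
      rw [map_smul, ← hc]
      rfl)
    (by
      rintro z -
      obtain ⟨x, rfl⟩ := Submodule.Quotient.mk_surjective _ z
      obtain ⟨a, ha, c, hc, rfl⟩ := Submodule.mem_sup.1 (hv.symm ▸ Submodule.mem_top : x ∈ _ ⊔ _)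
      rw [Submodule.Quotient.mk_add, (Submodule.Quotient.mk_eq_zero _).2 hc, add_zero]
      obtain ⟨d, rfl⟩ := (Submodule.mem_span_range_iff_exists_fun _).1 ha
      rw [← Submodule.mkQ_apply, map_sum]
      refine Submodule.sum_mem _ fun i _ => ?_
      rw [map_smul]
      exact Submodule.smul_mem _ (Ideal.Quotient.mk m (d i)) (Submodule.subset_span (Set.mem_range_self i)))
  let coord : P →ₗ[K] (n → K ⧸ m) :=
    (b.equivFun.toLinearMap.restrictScalars K) ∘ₗ (m • ⊤ : Submodule K P).mkQ
  have hsurj : Function.Surjective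
      ⇑(LinearMap.pi (fun i : n => (Algebra.linearMap K (K ⧸ m)) ∘ₗ (LinearMap.proj i : (n → K) →ₗ[K] K))) := fun y : n → K ⧸ m =>
    ⟨fun i => (Ideal.Quotient.mk_surjective (y i)).choose,
      funext fun i => (Ideal.Quotient.mk_surjective (y i)).choose_spec⟩
  obtain ⟨Ψ, hΨ⟩ := Module.projective_lifting_property _ coord hsurj
  let M : Matrix n n K := Matrix.of fun i j => Ψ (v j) i
  have hM : M.map (Ideal.Quotient.mk m) = 1 := by
    ext i j
    have h1 : Ideal.Quotient.mk m (Ψ (v j) i) = b.equivFun (Submodule.Quotient.mk (v j)) i :=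
      congrFun (LinearMap.congr_fun hΨ (v j)) i
    rw [Matrix.map_apply, show M i j = Ψ (v j) i from rfl, h1,
      show (Submodule.Quotient.mk (v j) : Q) = b j from by simp [b]]
    simp [Module.Basis.equivFun_apply, Finsupp.single_apply, Matrix.one_apply, eq_comm]
  refine ⟨M.det, fun h => ?_, fun c hc i => ?_⟩
  · have h1 := RingHom.map_det (Ideal.Quotient.mk m) M
    rw [RingHom.mapMatrix_apply, hM, Matrix.det_one, Ideal.Quotient.eq_zero_iff_mem.2 h] at h1
    exact zero_ne_one h1
  · have h2 : M.mulVec c = 0 := by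
      funext k
      have h3 := congrFun (congrArg Ψ hc) k
      simp only [map_sum, map_smul, map_zero, Finset.sum_apply, Pi.smul_apply, smul_eq_mul] at h3
      simp only [Matrix.mulVec, dotProduct, M, Matrix.of_apply, Pi.zero_apply]
      simpa [mul_comm] using h3
    have h3 := congrArg (Matrix.adjugate M).mulVec h2
    rw [Matrix.mulVec_mulVec, Matrix.adjugate_mul, Matrix.smul_mulVec, Matrix.one_mulVec, Matrix.mulVec_zero] at h3
    simpa using congrFun h3 i

theorem residual_li_of_span [Module.Finite K P] (m : Ideal K) [m.IsMaximal] {ι : Type w} [Fintype ι] (w v : ι → P)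
    (hwspan : Submodule.span K (Set.range w) ⊔ m • ⊤ = ⊤)
    (hwli : ∀ c : ι → K, ∑ i, c i • w i ∈ (m • ⊤ : Submodule K P) → ∀ i, c i ∈ m)
    (hvspan : Submodule.span K (Set.range v) ⊔ m • ⊤ = ⊤) :
    ∀ c : ι → K, ∑ i, c i • v i ∈ (m • ⊤ : Submodule K P) → ∀ i, c i ∈ m := by
  letI := Ideal.Quotient.field m
  let Q := P ⧸ (m • ⊤ : Submodule K P)
  have hspanQ : ∀ x : ι → P, Submodule.span K (Set.range x) ⊔ (m • ⊤ : Submodule K P) = ⊤ →
      (⊤ : Submodule (K ⧸ m) Q) ≤ Submodule.span (K ⧸ m) (Set.range fun i => (Submodule.Quotient.mk (x i) : Q)) := by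
    intro x hx z _
    obtain ⟨y, rfl⟩ := Submodule.Quotient.mk_surjective _ z
    obtain ⟨a, ha, b, hb, rfl⟩ := Submodule.mem_sup.1 (hx.symm ▸ Submodule.mem_top : y ∈ _ ⊔ _)
    rw [Submodule.Quotient.mk_add, (Submodule.Quotient.mk_eq_zero _).2 hb, add_zero]
    obtain ⟨d, rfl⟩ := (Submodule.mem_span_range_iff_exists_fun _).1 ha
    rw [← Submodule.mkQ_apply, map_sum]
    refine Submodule.sum_mem _ fun i _ => ?_
    rw [map_smul]
    exact Submodule.smul_mem _ (Ideal.Quotient.mk m (d i)) (Submodule.subset_span (Set.mem_range_self i))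
  have hwQ : LinearIndependent (K ⧸ m) (fun i => (Submodule.Quotient.mk (w i) : Q)) := by
    rw [Fintype.linearIndependent_iff]
    intro a ha i
    choose c hc using fun i => Ideal.Quotient.mk_surjective (a i)
    rw [← hc, Ideal.Quotient.eq_zero_iff_mem]
    refine hwli c ?_ i
    rw [← Submodule.Quotient.mk_eq_zero, ← ha, ← Submodule.mkQ_apply, map_sum]
    refine Finset.sum_congr rfl fun i _ => ?_
    rw [map_smul, ← hc]
    rfl
  have hcard : Fintype.card (ι) = Module.finrank (K ⧸ m) Q :=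
    (Module.finrank_eq_card_basis (Module.Basis.mk hwQ (hspanQ w hwspan))).symm
  have hvQ := linearIndependent_of_top_le_span_of_card_eq_finrank (hspanQ v hvspan) hcard
  intro c hc i
  rw [← Ideal.Quotient.eq_zero_iff_mem]
  refine Fintype.linearIndependent_iff.1 hvQ (fun i => Ideal.Quotient.mk m (c i)) ?_ i
  rw [← Submodule.Quotient.mk_eq_zero, ← Submodule.mkQ_apply, map_sum] at hc
  refine Eq.trans (Finset.sum_congr rfl fun i _ => ?_) hc
  rw [map_smul]
  rfl

theorem coker_local [Module.Finite K P] [Module.Projective K P] {σ τ : K →+* K}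
    (hστ : ∀ a, σ (τ a) = a) (hτσ : ∀ a, τ (σ a) = a) (F : P →ₛₗ[σ] P) (V : P →ₛₗ[τ] P)
    (hFV : ∀ x, F (V x) = 0) (hVF : ∀ x, V (F x) = 0)
    (hσm : ∀ (m : Ideal K) [m.IsMaximal] (a : K), σ a ∈ m ↔ a ∈ m)
    (hres : ∀ (m : Ideal K) [m.IsMaximal] (x : P), F x ∈ (m • ⊤ : Submodule K P) →
      x ∈ Submodule.span K (Set.range V) ⊔ m • ⊤)
    (m : Ideal K) (hm : m.IsMaximal) :
    ∃ (r : ℕ) (π : (Fin r → K) →ₗ[K] P ⧸ Submodule.span K (Set.range V)),
      (∃ g, g ∉ m ∧ ∀ z, g • z ∈ LinearMap.range π) ∧ (∃ g, g ∉ m ∧ ∀ c, π c = 0 → g • c = 0) := by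
  have hVimage : ∀ {k : ℕ} (u : Fin k → P) (x : P), x ∈ Submodule.span K (Set.range u) ⊔ Submodule.span K (Set.range F) →
      V x ∈ Submodule.span K (Set.range fun j => V (u j)) := by
    intro k u x hx
    obtain ⟨a, ha, b, hb, rfl⟩ := Submodule.mem_sup.1 hx
    rw [map_add]
    clear hx
    refine add_mem ?_ ?_
    · induction ha using Submodule.span_induction with
      | mem y hy => obtain ⟨j, rfl⟩ := hy; exact Submodule.subset_span ⟨j, rfl⟩
      | zero => rw [map_zero]; exact zero_mem _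
      | add s t _ _ hs ht => rw [map_add]; exact add_mem hs ht
      | smul c s _ hs => rw [map_smulₛₗ]; exact Submodule.smul_mem _ _ hs
    · suffices V b = 0 by rw [this]; exact zero_mem _
      induction hb using Submodule.span_induction with
      | mem y hy => obtain ⟨j, rfl⟩ := hy; exact hVF j
      | zero => rw [map_zero]
      | add s t _ _ hs ht => rw [map_add, hs, ht, add_zero]
      | smul c s _ hs => rw [map_smulₛₗ, hs, smul_zero]
  have hτm : ∀ a ∈ m, τ a ∈ m := fun a ha => (hσm m (τ a)).1 (by rwa [hστ])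
  have hσ' : ∀ a ∈ m, σ a ∈ m := fun a ha => (hσm m a).2 ha
  set U₁ := Submodule.span K (Set.range V) ⊔ (m • ⊤ : Submodule K P) with hU₁
  obtain ⟨r, e, he1, he2⟩ := exists_residual_frame m U₁ le_sup_right
  set U₂ := Submodule.span K (Set.range fun i => F (e i)) ⊔ (m • ⊤ : Submodule K P) with hU₂
  obtain ⟨s, u, hu1, hu2⟩ := exists_residual_frame m U₂ le_sup_right
  let w : Fin r ⊕ Fin s → P := Sum.elim (fun i => F (e i)) u
  let v : Fin r ⊕ Fin s → P := Sum.elim e (fun j => V (u j))
  have hwspan : Submodule.span K (Set.range w) ⊔ (m • ⊤ : Submodule K P) = ⊤ := by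
    rw [Set.Sum.elim_range, Submodule.span_union]
    refine Eq.trans ?_ hu1
    rw [hU₂]
    ac_rfl
  have hwli : ∀ c : Fin r ⊕ Fin s → K, ∑ i, c i • w i ∈ (m • ⊤ : Submodule K P) → ∀ i, c i ∈ m := by
    intro c hc
    rw [Fintype.sum_sum_type] at hc
    simp only [w, Sum.elim_inl, Sum.elim_inr] at hc
    have hr : ∀ j, c (Sum.inr j) ∈ m := hu2 _ (by
      have h1 : ∑ i, c (Sum.inl i) • F (e i) ∈ Submodule.span K (Set.range fun i => F (e i)) :=
        Submodule.sum_mem _ fun i _ => Submodule.smul_mem _ _ (Submodule.subset_span ⟨i, rfl⟩)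
      rw [← add_sub_cancel_left (∑ i, c (Sum.inl i) • F (e i)) (∑ j, c (Sum.inr j) • u j), sub_eq_neg_add]
      exact Submodule.add_mem_sup (neg_mem h1) hc)
    have hl : F (∑ i, τ (c (Sum.inl i)) • e i) ∈ (m • ⊤ : Submodule K P) := by
      rw [map_sum]
      simp only [map_smulₛₗ, hστ]
      have h1 : ∑ j, c (Sum.inr j) • u j ∈ (m • ⊤ : Submodule K P) :=
        Submodule.sum_mem _ fun j _ => Submodule.smul_mem_smul (hr j) Submodule.mem_top
      have h2 := Submodule.sub_mem _ hc h1
      rwa [add_sub_cancel_right] at h2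
    rintro (i | j)
    · rw [← hστ (c (Sum.inl i))]
      exact hσ' _ (he2 _ (hres m _ hl) i)
    · exact hr j
  have hvspan : Submodule.span K (Set.range v) ⊔ (m • ⊤ : Submodule K P) = ⊤ := by
    refine eq_top_iff.2 (he1.ge.trans (sup_le ?_ (sup_le ?_ le_sup_right)))
    · rw [Set.Sum.elim_range, Submodule.span_union]
      exact le_sup_of_le_left le_sup_left
    · rw [Submodule.span_le]
      rintro _ ⟨x, rfl⟩
      obtain ⟨a, ha, b, hb, rfl⟩ := Submodule.mem_sup.1 (hwspan.symm ▸ Submodule.mem_top : x ∈ _ ⊔ _)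
      rw [SetLike.mem_coe, map_add]
      refine Submodule.add_mem_sup ?_ ?_
      · rw [Set.Sum.elim_range, Submodule.span_union]
        refine Submodule.mem_sup_right (hVimage u a ?_)
        rw [Set.Sum.elim_range, Submodule.span_union, sup_comm] at ha
        obtain ⟨a₁, h₁, a₂, h₂, rfl⟩ := Submodule.mem_sup.1 ha
        exact Submodule.add_mem_sup h₁ (Submodule.span_mono (t := Set.range F) (Set.range_subset_iff.2 fun i => Set.mem_range_self (e i)) h₂)
      · refine Submodule.smul_induction_on hb (fun c hc z _ => ?_) (fun p q hp hq => by rw [map_add]; exact add_mem hp hq)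
        rw [map_smulₛₗ]
        exact Submodule.smul_mem_smul (hτm c hc) Submodule.mem_top
  have hvli := residual_li_of_span m w v hwspan hwli hvspan
  obtain ⟨g, hg, hgc⟩ := exists_det_kill m v hvspan hvli
  have hsp2 : (Submodule.span K (Set.range u) ⊔ Submodule.span K (Set.range F)) ⊔ (m • ⊤ : Submodule K P) = ⊤ := by
    refine eq_top_iff.2 (hwspan.ge.trans (sup_le_sup_right ?_ _))
    rw [Set.Sum.elim_range, Submodule.span_union]
    exact sup_le (le_sup_of_le_right (Submodule.span_mono (Set.range_subset_iff.2 fun i => ⟨e i, rfl⟩))) le_sup_left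
  obtain ⟨g₁, hg₁, hg₁'⟩ := exists_notMem_smul_mem hm.ne_top hsp2
  have hτg : τ g₁ ∉ m := fun h => hg₁ (by simpa [hστ] using hσ' _ h)
  obtain ⟨g₂, hg₂, hg₂'⟩ := exists_notMem_smul_mem hm.ne_top hvspan
  refine ⟨r, (Submodule.span K (Set.range V)).mkQ ∘ₗ Fintype.linearCombination K e, ⟨g₂, hg₂, fun z => ?_⟩,
    ⟨g * τ g₁, hm.isPrime.mul_notMem hg hτg, fun c hc => ?_⟩⟩
  · obtain ⟨x, rfl⟩ := Submodule.Quotient.mk_surjective _ z
    obtain ⟨d, hd⟩ := (Submodule.mem_span_range_iff_exists_fun _).1 (hg₂' x)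
    refine ⟨fun i => d (Sum.inl i), ?_⟩
    rw [← Submodule.Quotient.mk_smul, ← hd, Fintype.sum_sum_type, LinearMap.comp_apply, Fintype.linearCombination_apply,
      Submodule.mkQ_apply, Submodule.Quotient.mk_add]
    have h0 : (Submodule.Quotient.mk (∑ j, d (Sum.inr j) • v (Sum.inr j)) : P ⧸ Submodule.span K (Set.range V)) = 0 :=
      (Submodule.Quotient.mk_eq_zero _).2
        (Submodule.sum_mem _ fun j _ => Submodule.smul_mem _ _ (Submodule.subset_span ⟨u j, rfl⟩))
    rw [h0, add_zero]
    rfl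
  · rw [LinearMap.comp_apply, Submodule.mkQ_apply, Submodule.Quotient.mk_eq_zero, Fintype.linearCombination_apply] at hc
    have h1 : τ g₁ • ∑ i, c i • e i ∈ Submodule.span K (Set.range fun j => V (u j)) := by
      generalize (∑ i, c i • e i) = y at hc
      induction hc using Submodule.span_induction with
      | mem y hy => obtain ⟨x, rfl⟩ := hy; rw [← map_smulₛₗ]; exact hVimage u _ (hg₁' x)
      | zero => rw [smul_zero]; exact zero_mem _
      | add s t _ _ hs ht => rw [smul_add]; exact add_mem hs ht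
      | smul a s _ hs => rw [smul_comm]; exact Submodule.smul_mem _ a hs
    obtain ⟨d, hd⟩ := (Submodule.mem_span_range_iff_exists_fun _).1 h1
    have h2 := hgc (Sum.elim (fun i => τ g₁ * c i) (fun j => -d j)) (by
      rw [Fintype.sum_sum_type]
      simp only [v, Sum.elim_inl, Sum.elim_inr, neg_smul, Finset.sum_neg_distrib, hd, Finset.smul_sum, smul_smul,
        add_neg_cancel])
    funext i
    simpa [mul_assoc] using h2 (Sum.inl i)

/-- cokernel of `V` for an exact pair `F`, `V` -/
theorem projective_coker [Module.Finite K P] [Module.Projective K P] {σ τ : K →+* K}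
    (hστ : ∀ a, σ (τ a) = a) (hτσ : ∀ a, τ (σ a) = a) (F : P →ₛₗ[σ] P) (V : P →ₛₗ[τ] P)
    (hFV : ∀ x, F (V x) = 0) (hVF : ∀ x, V (F x) = 0)
    (hσm : ∀ (m : Ideal K) [m.IsMaximal] (a : K), σ a ∈ m ↔ a ∈ m)
    (hres : ∀ (m : Ideal K) [m.IsMaximal] (x : P), F x ∈ (m • ⊤ : Submodule K P) →
      x ∈ Submodule.span K (Set.range V) ⊔ m • ⊤) :
    Module.Projective K (P ⧸ Submodule.span K (Set.range V)) := by
  classical
  set N := P ⧸ Submodule.span K (Set.range V)
  have hflat : Module.Flat K N := by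
    refine Module.flat_of_localized_maximal _ fun m hm => ?_
    obtain ⟨r, π, ⟨g₁, hg₁, hsurj⟩, ⟨g₂, hg₂, hinj⟩⟩ := coker_local hστ hτσ F V hFV hVF hσm hres m hm
    let S := m.primeCompl
    let f := LocalizedModule.mkLinearMap S (Fin r → K)
    let f' := LocalizedModule.mkLinearMap S N
    let π' := IsLocalizedModule.map S f f' π
    have hb : Function.Bijective π' := by
      constructor
      · rw [← LinearMap.ker_eq_bot]
        refine eq_bot_iff.2 fun z hz => ?_
        obtain ⟨⟨c, s⟩, rfl⟩ := IsLocalizedModule.mk'_surjective S f z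
        rw [LinearMap.mem_ker, Function.uncurry_apply_pair, IsLocalizedModule.map_mk', IsLocalizedModule.mk'_eq_zero'] at hz
        obtain ⟨t, ht⟩ := hz
        rw [Submodule.mem_bot, Function.uncurry_apply_pair, IsLocalizedModule.mk'_eq_zero']
        refine ⟨⟨g₂, hg₂⟩ * t, ?_⟩
        have := hinj ((t : K) • c) (by rw [map_smul]; exact ht)
        rw [Submonoid.smul_def, Submonoid.coe_mul, mul_smul]
        exact this
      · intro z
        obtain ⟨⟨y, s⟩, rfl⟩ := IsLocalizedModule.mk'_surjective S f' z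
        obtain ⟨c, hc⟩ := hsurj y
        refine ⟨IsLocalizedModule.mk' f c (⟨g₁, hg₁⟩ * s), ?_⟩
        rw [IsLocalizedModule.map_mk', hc, Function.uncurry_apply_pair]
        exact IsLocalizedModule.mk'_cancel_left f' y ⟨g₁, hg₁⟩ s
    have : Module.Flat K (LocalizedModule S (Fin r → K)) := by
      haveI : Module.Flat K (Localization S) := IsLocalization.flat (Localization S) S
      exact Module.Flat.trans K (Localization S) _
    exact Module.Flat.of_linearEquiv (LinearEquiv.ofBijective π' hb).symm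
  have hfg : (Submodule.span K (Set.range V)).FG := by
    obtain ⟨S, hS⟩ := ‹Module.Finite K P›.fg_top
    refine ⟨S.image V, le_antisymm (Submodule.span_mono (by simp [Set.image_subset_iff, Set.subset_def])) ?_⟩
    rw [Submodule.span_le]
    rintro _ ⟨x, rfl⟩
    have hx : x ∈ Submodule.span K (S : Set P) := by rw [hS]; trivial
    induction hx using Submodule.span_induction with
    | mem y hy => exact Submodule.subset_span (Finset.mem_coe.2 (Finset.mem_image_of_mem _ hy))
    | zero => rw [map_zero]; exact zero_mem _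
    | add s t _ _ hs ht => rw [map_add]; exact add_mem hs ht
    | smul a s _ hs => rw [map_smulₛₗ]; exact Submodule.smul_mem _ _ hs
  have : Module.FinitePresentation K P := Module.finitePresentation_of_projective K P
  have : Module.FinitePresentation K N :=
    Module.finitePresentation_of_surjective _ (Submodule.mkQ_surjective _) (by rw [Submodule.ker_mkQ]; exact hfg)
  exact Module.Flat.projective_of_finitePresentation

end Groth.Misc5Disp
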