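import Groth.Agent.Misc5Disp.Witt
import Mathlib.RingTheory.Jacobson.Ideal

set_option autoImplicit false

universe u

namespace Groth.Misc5Disp

open WittVector W4c1extbt610

variable {p : ℕ} [hp : Fact p.Prime] {R : Type u} [CommRing R]

/-- `W(R) → W_n(R/p^m)` -/
noncomputable def red (m n : ℕ) :
    WittVector p R →+* TruncatedWittVector p n (R ⧸ Ideal.span {(p : R) ^ m}) :=
  (WittVector.truncate n).comp (WittVector.map (Ideal.Quotient.mk _))

theorem red_eq_iff {m n : ℕ} {x y : WittVector p R} :
    red (p := p) (R := R) m n x = red m n y ↔ ∀ i < n, x.coeff i - y.coeff i ∈ Ideal.span {(p : R) ^ m} := by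
  simp only [red, RingHom.comp_apply, TruncatedWittVector.ext_iff, WittVector.coeff_truncate,
    WittVector.map_coeff, Ideal.Quotient.eq]
  exact ⟨fun h i hi => h ⟨i, hi⟩, fun h i => h i i.2⟩

theorem p_pow_mul_V (k : ℕ) : ∀ x : WittVector p R, x ∈ IV p R →
    (p : WittVector p R) ^ k * x ∈ (IV p R) ^ (k + 1) := by
  induction k with
  | zero => intro x hx; simpa using hx
  | succ k ih =>
    intro x hx
    obtain ⟨w, rfl⟩ := exists_V_of_mem_IV hx
    have hw : (p : WittVector p R) ^ (k + 1) * verschiebung w =
        ((p : WittVector p R) ^ k * verschiebung 1) * verschiebung w := by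
      rw [mul_assoc, V_mul_V, one_mul]; ring
    rw [hw, pow_succ (IV p R) (k + 1)]
    exact Ideal.mul_mem_mul (ih _ (verschiebung_mem_IV p R 1)) (verschiebung_mem_IV p R w)

theorem exists_p_pow_mul_of_mem_IV_pow (k : ℕ) : ∀ x : WittVector p R, x ∈ (IV p R) ^ (k + 1) →
    ∃ y ∈ IV p R, (p : WittVector p R) ^ k * y = x := by
  induction k with
  | zero => intro x hx; exact ⟨x, by simpa using hx, by simp⟩
  | succ k ih =>
    intro x hx
    rw [pow_succ] at hx
    refine Submodule.mul_induction_on hx ?_ ?_
    · intro a ha b hb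
      obtain ⟨y, hy, rfl⟩ := ih a ha
      obtain ⟨u, rfl⟩ := exists_V_of_mem_IV hy
      obtain ⟨w, rfl⟩ := exists_V_of_mem_IV hb
      refine ⟨verschiebung (u * w), verschiebung_mem_IV p R _, ?_⟩
      rw [mul_assoc, V_mul_V]; ring
    · rintro _ _ ⟨a, ha, rfl⟩ ⟨b, hb, rfl⟩
      exact ⟨a + b, (IV p R).add_mem ha hb, by ring⟩

theorem exists_natCast_pow_eq_V_iterate {T : Type u} [CommRing T] {m : ℕ} (hm : (p : T) ^ m = 0) (j : ℕ) :
    ∃ y : WittVector p T, (p : WittVector p T) ^ (m * j) = (⇑(verschiebung (p := p) (R := T)))^[j] y := by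
  induction j with
  | zero => exact ⟨1, by simp⟩
  | succ j ih =>
    obtain ⟨y, hy⟩ := ih
    have h0 : ((p : WittVector p T) ^ m).coeff 0 = 0 := by
      change WittVector.constantCoeff ((p : WittVector p T) ^ m) = 0
      rw [map_pow, map_natCast, hm]
    have hcomm : ∀ (i : ℕ) (z : WittVector p T), (p : WittVector p T) ^ m * (⇑(verschiebung (p := p) (R := T)))^[i] z =
        (⇑(verschiebung (p := p) (R := T)))^[i] ((p : WittVector p T) ^ m * z) := by
      intro i
      induction i with
      | zero => simp
      | succ i ih =>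
        intro z
        rw [Function.iterate_succ_apply', Function.iterate_succ_apply', mul_V, map_pow, map_natCast, ih]
    refine ⟨((p : WittVector p T) ^ m).shift 1 * WittVector.frobenius y, ?_⟩
    rw [show m * (j + 1) = m + m * j by ring, pow_add, hy, hcomm, Function.iterate_succ_apply]
    congr 1
    conv_lhs => rw [← eq_V_shift h0]
    rw [V_mul]

theorem red_natCast_pow_eq_zero (m n k : ℕ) (hk : m * n ≤ k) :
    red (p := p) (R := R) m n ((p : WittVector p R) ^ k) = 0 := by
  obtain ⟨d, rfl⟩ := Nat.exists_eq_add_of_le hk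
  have hm : (p : R ⧸ Ideal.span {(p : R) ^ m}) ^ m = 0 := by
    rw [← map_natCast (Ideal.Quotient.mk _), ← map_pow, Ideal.Quotient.eq_zero_iff_mem]
    exact Ideal.mem_span_singleton_self _
  obtain ⟨y, hy⟩ := exists_natCast_pow_eq_V_iterate (p := p) hm n
  rw [pow_add, map_mul]
  have : red (p := p) (R := R) m n ((p : WittVector p R) ^ (m * n)) = 0 := by
    rw [red, RingHom.comp_apply, map_pow, map_natCast, hy, ← RingHom.mem_ker, WittVector.mem_ker_truncate]
    intro i hi
    obtain ⟨d, rfl⟩ := Nat.exists_eq_add_of_lt hi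
    clear hy hm
    induction i with
    | zero => rw [Nat.zero_add, Function.iterate_succ_apply', verschiebung_coeff_zero]
    | succ i ih =>
      rw [show i + 1 + d + 1 = (i + d + 1) + 1 by ring, Function.iterate_succ_apply', verschiebung_coeff_succ]
      exact ih (by omega) (by omega)
  rw [this, zero_mul]

variable [IsAdicComplete (Ideal.span {(p : R)}) R]

theorem eq_of_red {x y : WittVector p R}
    (h : ∀ m n, red (p := p) (R := R) m n x = red m n y) : x = y := by
  ext i
  refine sub_eq_zero.1 (IsHausdorff.haus (I := Ideal.span {(p : R)}) inferInstance _ fun m => ?_)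
  rw [SModEq.zero, smul_eq_mul, Ideal.mul_top, Ideal.span_singleton_pow]
  exact red_eq_iff.1 (h m (i + 1)) i (Nat.lt_succ_self i)

/-- sums `∑ p^j u_j` exist -/
theorem exists_series (u : ℕ → WittVector p R) :
    ∃ L : WittVector p R, ∀ m n k, m * n ≤ k →
      red (p := p) (R := R) m n L = red m n (∑ j ∈ Finset.range k, (p : WittVector p R) ^ j * u j) := by
  set s := fun k => ∑ j ∈ Finset.range k, (p : WittVector p R) ^ j * u j with hs
  have stable : ∀ m n k k', m * n ≤ k → k ≤ k' → red (p := p) (R := R) m n (s k') = red m n (s k) := by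
    intro m n k k' hk hkk'
    obtain ⟨d, rfl⟩ := Nat.exists_eq_add_of_le hkk'
    induction d with
    | zero => rfl
    | succ d ih =>
      have hsucc : s (k + (d + 1)) = s (k + d) + (p : WittVector p R) ^ (k + d) * u (k + d) :=
        Finset.sum_range_succ _ _
      rw [hsucc, map_add, ih (Nat.le_add_right k d), map_mul, red_natCast_pow_eq_zero m n (k + d) (by omega),
        zero_mul, add_zero]
  have hc : ∀ i, ∃ l : R, ∀ m, (s (m * (i + 1))).coeff i - l ∈ Ideal.span {(p : R) ^ m} := by
    intro i
    obtain ⟨l, hl⟩ := IsPrecomplete.prec (I := Ideal.span {(p : R)}) inferInstance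
      (f := fun m => (s (m * (i + 1))).coeff i) (fun {m m'} hmm' => by
        rw [SModEq.sub_mem, smul_eq_mul, Ideal.mul_top, Ideal.span_singleton_pow]
        exact red_eq_iff.1 (stable m (i + 1) _ _ le_rfl (Nat.mul_le_mul_right _ hmm')).symm i (Nat.lt_succ_self i))
    refine ⟨l, fun m => ?_⟩
    have := hl m
    rwa [SModEq.sub_mem, smul_eq_mul, Ideal.mul_top, Ideal.span_singleton_pow] at this
  choose l hl using hc
  refine ⟨WittVector.mk p l, fun m n k hk => ?_⟩
  refine red_eq_iff.2 fun i hi => ?_
  rw [WittVector.coeff_mk]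
  have h1 := red_eq_iff.1 (stable m (i + 1) _ k le_rfl
    ((Nat.mul_le_mul_left m hi).trans hk)) i (Nat.lt_succ_self i)
  have := Ideal.add_mem _ (hl i m) h1
  rw [← neg_mem_iff]
  convert this using 1
  ring

theorem isAdicComplete_IV : IsAdicComplete (IV p R) (WittVector p R) where
  haus' x hx := by
    refine eq_of_red fun m n => ?_
    have hm := hx (m * n + 1)
    rw [SModEq.zero, smul_eq_mul, Ideal.mul_top] at hm
    obtain ⟨y, -, rfl⟩ := exists_p_pow_mul_of_mem_IV_pow (m * n) x hm
    rw [map_mul, red_natCast_pow_eq_zero m n _ le_rfl, zero_mul, map_zero]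
  prec' f hf := by
    have hd : ∀ k, ∃ y ∈ IV p R, (p : WittVector p R) ^ k * y = f (k + 2) - f (k + 1) := by
      intro k
      refine exists_p_pow_mul_of_mem_IV_pow k _ ?_
      have := hf (Nat.le_succ (k + 1))
      rw [SModEq.sub_mem, smul_eq_mul, Ideal.mul_top] at this
      simpa using neg_mem this
    choose v hv hvf using hd
    obtain ⟨L, hL⟩ := exists_series v
    refine ⟨f 1 + L, fun k => ?_⟩
    rw [SModEq.sub_mem, smul_eq_mul, Ideal.mul_top]
    cases k with
    | zero => rw [pow_zero, Ideal.one_eq_top]; trivial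
    | succ k =>
      obtain ⟨L', hL'⟩ := exists_series fun j => v (k + j)
      have hL'mem : L' ∈ IV p R := by
        refine mem_IV_iff.2 ?_
        refine IsHausdorff.haus (I := Ideal.span {(p : R)}) inferInstance _ fun m => ?_
        rw [SModEq.zero, smul_eq_mul, Ideal.mul_top, Ideal.span_singleton_pow]
        have h1 := red_eq_iff.1 (hL' m 1 m (by omega)) 0 Nat.zero_lt_one
        have h2 : (∑ j ∈ Finset.range m, (p : WittVector p R) ^ j * v (k + j)).coeff 0 = 0 :=
          mem_IV_iff.1 (Ideal.sum_mem _ fun j _ => Ideal.mul_mem_left _ _ (hv _))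
        rwa [h2, sub_zero] at h1
      have hf1 : ∀ k, f (k + 1) = f 1 + ∑ j ∈ Finset.range k, (p : WittVector p R) ^ j * v j := by
        intro k
        induction k with
        | zero => simp
        | succ k ih => rw [Finset.sum_range_succ, ← add_assoc, ← ih, hvf]; ring
      have hsplit : L = (∑ j ∈ Finset.range k, (p : WittVector p R) ^ j * v j) + (p : WittVector p R) ^ k * L' := by
        refine eq_of_red fun m n => ?_
        rw [map_add, map_mul, hL' m n (m * n) le_rfl, ← map_mul, ← map_add, hL m n (k + m * n) (by omega),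
          Finset.sum_range_add, Finset.mul_sum]
        simp only [pow_add, mul_assoc]
      rw [hf1, hsplit, add_sub_add_left_eq_sub, sub_add_cancel_left, neg_mem_iff]
      exact p_pow_mul_V k L' hL'mem

theorem IV_le_jacobson : IV p R ≤ (⊥ : Ideal (WittVector p R)).jacobson :=
  have := isAdicComplete_IV (p := p) (R := R)
  IsAdicComplete.le_jacobson_bot (IV p R)

theorem mem_of_isMaximal (m : Ideal (WittVector p R)) [m.IsMaximal] :
    IV p R ≤ m ∧ (p : WittVector p R) ∈ m := by
  have h1 : IV p R ≤ m := IV_le_jacobson.trans (sInf_le ⟨bot_le, inferInstance⟩)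
  refine ⟨h1, ?_⟩
  let c : WittVector p R →+* R := WittVector.constantCoeff
  have hc : Function.Surjective c := WittVector.constantCoeff_surjective p
  have hk : RingHom.ker c ≤ m := IV_eq_ker (p := p) (R := R) ▸ h1
  have hmax : (m.map c).IsMaximal :=
    (Ideal.map_eq_top_or_isMaximal_of_surjective c hc ‹m.IsMaximal›).resolve_left fun htop => by
      have hcm := Ideal.comap_map_of_surjective' c hc m
      rw [htop, Ideal.comap_top, sup_eq_left.2 hk] at hcm
      exact (‹m.IsMaximal›).ne_top hcm.symm
  have hpR : (p : R) ∈ m.map c :=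
    (IsAdicComplete.le_jacobson_bot (Ideal.span {(p : R)})).trans (sInf_le ⟨bot_le, hmax⟩)
      (Ideal.mem_span_singleton_self _)
  have : (p : WittVector p R) ∈ (m.map c).comap c := by rw [Ideal.mem_comap, map_natCast]; exact hpR
  rwa [Ideal.comap_map_of_surjective' c hc, sup_eq_left.2 hk] at this

omit hp [IsAdicComplete (Ideal.span {(p : R)}) R] in
theorem isAdicComplete_of_isNilpotent (h : IsNilpotent (p : R)) :
    IsAdicComplete (Ideal.span {(p : R)}) R := by
  obtain ⟨e, he⟩ := h
  have hbot : ∀ n, e ≤ n → ((Ideal.span {(p : R)}) ^ n • ⊤ : Submodule R R) = ⊥ := fun n hn => by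
    rw [Ideal.span_singleton_pow, pow_eq_zero_of_le hn he, Ideal.span_singleton_zero, Submodule.bot_smul]
  exact { haus' := fun x hx => by have := hx e; rwa [hbot e le_rfl, SModEq.bot] at this
          prec' := fun f hf => ⟨f e, fun n => by
            rcases le_total n e with hn | hn
            · exact hf hn
            · have := hf hn
              rw [hbot e le_rfl, SModEq.bot] at this
              rw [this]⟩ }

end Groth.Misc5Disp
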