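import Groth.Prelude.Def_Dieu
import Mathlib.Algebra.Module.Projective
import Mathlib.RingTheory.Finiteness.Basic
import Mathlib.LinearAlgebra.StdBasis

set_option autoImplicit false

universe u v w w' z

namespace Groth.Misc5Disp

open Dieu

section

variable {A : Type u} [CommRing A] {P : Type v} [AddCommGroup P] [Module A P]

/-- finite dual basis of a finitely generated projective module -/
theorem exists_dualBasis [Module.Finite A P] [Module.Projective A P] :
    ∃ (n : ℕ) (φ : Fin n → (P →ₗ[A] A)) (x : Fin n → P), ∀ y, ∑ i, φ i y • x i = y := by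
  classical
  obtain ⟨n, f, hf⟩ := Module.Finite.exists_fin' A P
  obtain ⟨s, hs⟩ := Module.projective_lifting_property f LinearMap.id hf
  refine ⟨n, fun i => (LinearMap.proj i) ∘ₗ s, fun i => f (Pi.single i 1), fun y => ?_⟩
  conv_rhs => rw [← LinearMap.id_apply (R := A) y, ← hs, LinearMap.comp_apply, pi_eq_sum_univ' (s y), map_sum]
  simp [Pi.single_apply, map_smul]

theorem mem_smul_top_iff_of_dualBasis {ι : Type*} [Fintype ι] (φ : ι → (P →ₗ[A] A)) (x : ι → P)
    (h : ∀ y, ∑ i, φ i y • x i = y) (J : Ideal A) (y : P) :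
    y ∈ J • (⊤ : Submodule A P) ↔ ∀ i, φ i y ∈ J := by
  constructor
  · intro hy i
    have : Submodule.map (φ i) (J • (⊤ : Submodule A P)) ≤ J := by
      rw [Submodule.map_smul'']
      exact le_trans (smul_mono_right _ le_top) (by simp [smul_eq_mul])
    exact this (Submodule.mem_map_of_mem hy)
  · intro hy
    rw [← h y]
    exact Submodule.sum_mem _ fun i _ => Submodule.smul_mem_smul (hy i) Submodule.mem_top

theorem map_mem_smul_top {N : Type w} [AddCommGroup N] [Module A N] (f : P →ₗ[A] N) {J : Ideal A} {y : P}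
    (hy : y ∈ J • (⊤ : Submodule A P)) : f y ∈ J • (⊤ : Submodule A N) := by
  have h : Submodule.map f (J • (⊤ : Submodule A P)) ≤ J • ⊤ := by
    rw [Submodule.map_smul'']; exact smul_mono_right _ le_top
  exact h (Submodule.mem_map_of_mem hy)

variable {B : Type w} [CommRing B] {g : A →+* B} {N : Type w'} [AddCommGroup N] [Module B N]

theorem semilinear_mem_smul_top (f : P →ₛₗ[g] N) {I : Ideal A} {J : Ideal B} (h : ∀ a ∈ I, g a ∈ J) {y : P}
    (hy : y ∈ I • (⊤ : Submodule A P)) : f y ∈ J • (⊤ : Submodule B N) := by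
  refine Submodule.smul_induction_on hy (fun a ha x _ => ?_) (fun x z hx hz => ?_)
  · rw [map_smulₛₗ]; exact Submodule.smul_mem_smul (h a ha) Submodule.mem_top
  · rw [map_add]; exact Submodule.add_mem _ hx hz

end

section BC

variable {A : Type u} {B : Type v} [CommRing A] [CommRing B] {g : A →+* B}
  {P : Type w} [AddCommGroup P] [Module A P]

theorem tmul_sum {ι : Type*} (s : Finset ι) (b : B) (f : ι → P) :
    BC.tmul g b (∑ i ∈ s, f i) = ∑ i ∈ s, BC.tmul g b (f i) := by
  classical
  induction s using Finset.induction with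
  | empty => simp
  | insert i s hi ih => rw [Finset.sum_insert hi, Finset.sum_insert hi, BC.tmul_add, ih]

theorem tmul_smul (b : B) (a : A) (x : P) : BC.tmul g b (a • x) = g a • BC.tmul g b x := by
  rw [BC.smul_tmul, mul_comm, BC.tmul_mul_apply]

theorem tmul_mem_smul_top {J : Ideal B} {b : B} (hb : b ∈ J) (x : P) :
    BC.tmul g b x ∈ J • (⊤ : Submodule B (BC g P)) := by
  rw [BC.tmul_eq_smul_tmul_one]; exact Submodule.smul_mem_smul hb Submodule.mem_top

theorem tmul_mem_smul_top_right {I : Ideal A} {J : Ideal B} (h : ∀ a ∈ I, g a ∈ J) (b : B) {x : P}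
    (hx : x ∈ I • (⊤ : Submodule A P)) : BC.tmul g b x ∈ J • (⊤ : Submodule B (BC g P)) := by
  rw [BC.tmul_eq_smul_tmul_one]
  exact Submodule.smul_mem _ _ (semilinear_mem_smul_top (BC.ι g P) h hx)

theorem span_ι_eq_top : Submodule.span B (Set.range (BC.ι g P)) = ⊤ := by
  refine eq_top_iff.2 fun z hz => ?_
  clear hz
  induction z using BC.induction_on g with
  | zero => exact zero_mem _
  | tmul b x =>
    rw [BC.tmul_eq_smul_tmul_one]
    exact Submodule.smul_mem _ _ (Submodule.subset_span ⟨x, rfl⟩)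
  | add z₁ z₂ h₁ h₂ => exact add_mem h₁ h₂

theorem bc_finite [Module.Finite A P] : Module.Finite B (BC g P) := by
  obtain ⟨s, hs⟩ := ‹Module.Finite A P›.fg_top
  classical
  refine ⟨⟨s.image (fun x => BC.tmul g 1 x), eq_top_iff.2 ?_⟩⟩
  rw [← span_ι_eq_top, Submodule.span_le]
  rintro _ ⟨x, rfl⟩
  have hx : x ∈ Submodule.span A (s : Set P) := by rw [hs]; trivial
  induction hx using Submodule.span_induction with
  | mem y hy => exact Submodule.subset_span (by simp only [BC.ι_apply, Finset.coe_image]; exact ⟨y, hy, rfl⟩)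
  | zero => rw [map_zero]; exact zero_mem _
  | add y z _ _ h₁ h₂ => rw [map_add]; exact add_mem h₁ h₂
  | smul a y _ h => rw [map_smulₛₗ]; exact Submodule.smul_mem _ _ h

variable (g) in
/-- a linear functional extended to the scalar extension -/
noncomputable def bcFun (φ : P →ₗ[A] A) : BC g P →ₗ[B] B :=
  BC.lift g ((semilinearOfRingHom g).comp φ)

@[simp] theorem bcFun_tmul (φ : P →ₗ[A] A) (b : B) (x : P) : bcFun g φ (BC.tmul g b x) = b * g (φ x) := by
  simp [bcFun]

theorem bc_dualBasis {ι : Type*} [Fintype ι] (φ : ι → (P →ₗ[A] A)) (x : ι → P)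
    (h : ∀ y, ∑ i, φ i y • x i = y) (z : BC g P) :
    ∑ i, bcFun g (φ i) z • BC.tmul g 1 (x i) = z := by
  induction z using BC.induction_on g with
  | zero => simp
  | tmul b y =>
    conv_rhs => rw [← h y, tmul_sum]
    refine Finset.sum_congr rfl fun i _ => ?_
    rw [bcFun_tmul, tmul_smul, BC.smul_tmul, BC.smul_tmul, mul_one, mul_comm]
  | add z₁ z₂ h₁ h₂ => simp only [map_add, add_smul, Finset.sum_add_distrib, h₁, h₂]

theorem bc_projective [Module.Finite A P] [Module.Projective A P] : Module.Projective B (BC g P) := by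
  obtain ⟨n, φ, x, h⟩ := exists_dualBasis (A := A) (P := P)
  refine Module.Projective.of_split (M := Fin n → B) (LinearMap.pi fun i => bcFun g (φ i))
    (Fintype.linearCombination B fun i => BC.tmul g 1 (x i)) (LinearMap.ext fun z => ?_)
  simpa [Fintype.linearCombination_apply] using bc_dualBasis φ x h z

theorem ι_injective_of {ι : Type*} [Fintype ι] (φ : ι → (P →ₗ[A] A)) (x : ι → P)
    (h : ∀ y, ∑ i, φ i y • x i = y) (hg : Function.Injective g) : Function.Injective (BC.ι g P) := by
  intro a b hab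
  rw [← h a, ← h b]
  refine Finset.sum_congr rfl fun i _ => congrArg (· • x i) (hg ?_)
  simpa using congrArg (bcFun g (φ i)) hab

variable {C : Type w'} [CommRing C] {h : B →+* C} {N : Type z} [AddCommGroup N] [Module C N]

/-- a semilinear map out of a scalar extension -/
noncomputable def liftSemi (h : B →+* C) (φ : P →ₛₗ[h.comp g] N) : BC g P →ₛₗ[h] N :=
  (BC.lift (h.comp g) φ).comp (BC.push g h)

@[simp] theorem liftSemi_tmul (φ : P →ₛₗ[h.comp g] N) (b : B) (x : P) :
    liftSemi h φ (BC.tmul g b x) = h b • φ x := by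
  simp [liftSemi]

theorem semilinear_ext {f₁ f₂ : BC g P →ₛₗ[h] N}
    (he : ∀ x : P, f₁ (BC.tmul g 1 x) = f₂ (BC.tmul g 1 x)) : f₁ = f₂ := by
  refine LinearMap.ext fun z => ?_
  induction z using BC.induction_on g with
  | zero => rw [map_zero, map_zero]
  | tmul b x => rw [BC.tmul_eq_smul_tmul_one, map_smulₛₗ, map_smulₛₗ, he]
  | add z₁ z₂ h₁ h₂ => rw [map_add, map_add, h₁, h₂]

end BC

section Semi

variable {A : Type u} {B : Type v} [CommRing A] [CommRing B] {g g' : A →+* B}
  {P : Type w} [AddCommGroup P] [Module A P] {N : Type w'} [AddCommGroup N] [Module B N]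

/-- the same semilinear map along an equal ring map -/
def recast (e : g = g') (φ : P →ₛₗ[g] N) : P →ₛₗ[g'] N where
  toFun := φ
  map_add' := map_add φ
  map_smul' a x := by subst e; exact map_smulₛₗ φ a x

@[simp] theorem recast_apply (e : g = g') (φ : P →ₛₗ[g] N) (x : P) : recast e φ x = φ x := rfl

end Semi

end Groth.Misc5Disp
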