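import Groth.Agent.Misc5Disp.Witt
import Groth.Agent.Misc5Disp.Tensor
import Groth.Prelude.Def_Disp2
import Mathlib.LinearAlgebra.Projection

set_option autoImplicit false

universe u v

namespace Groth.Misc5Disp

open WittVector W4c1extbt610 Dieu

variable {p : ℕ} [hp : Fact p.Prime] {R : Type u} [CommRing R]
variable {P : Type v} [AddCommGroup P] [Module (WittVector p R) P]


/-- `IV • P` -/
noncomputable abbrev IVP (p : ℕ) [Fact p.Prime] (R : Type u) [CommRing R] (P : Type v) [AddCommGroup P]
    [Module (WittVector p R) P] : Submodule (WittVector p R) P :=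
  IV p R • (⊤ : Submodule (WittVector p R) P)

theorem V_smul_mem (w : (WittVector p R)) (x : P) : verschiebung w • x ∈ IVP p R P :=
  Submodule.smul_mem_smul (verschiebung_mem_IV p R w) Submodule.mem_top

/-- maps on `IV • P` are determined by values on `V w • x` -/
theorem IVP_induction {motive : IVP p R P → Prop} (z : IVP p R P)
    (gen : ∀ (w : (WittVector p R)) (x : P), motive ⟨verschiebung w • x, V_smul_mem w x⟩)
    (add : ∀ a b, motive a → motive b → motive (a + b)) : motive z := by
  obtain ⟨z, hz⟩ := z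
  refine Submodule.smul_induction_on' hz (p := fun y hy => motive ⟨y, hy⟩) (fun a ha x _ => ?_)
    (fun x hx y hy h1 h2 => add _ _ h1 h2)
  obtain ⟨w, rfl⟩ := exists_V_of_mem_IV ha
  exact gen w x

variable [Module.Finite (WittVector p R) P] [Module.Projective (WittVector p R) P]

theorem exists_G (F : P →ₛₗ[(WittVector.frobenius : WittVector p R →+* WittVector p R)] P) :
    ∃ G : IVP p R P →ₛₗ[(WittVector.frobenius : WittVector p R →+* WittVector p R)] P, ∀ (w : (WittVector p R)) (x : P),
      G ⟨verschiebung w • x, V_smul_mem w x⟩ = w • F x := by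
  obtain ⟨n, φ, e, he⟩ := exists_dualBasis (A := (WittVector p R)) (P := P)
  have hφ : ∀ (z : IVP p R P) i, (φ i (z : P)).coeff 0 = 0 := fun z i =>
    mem_IV_iff.1 ((mem_smul_top_iff_of_dualBasis φ e he (IV p R) z).1 z.2 i)
  let G : IVP p R P →ₛₗ[(WittVector.frobenius : WittVector p R →+* WittVector p R)] P :=
    { toFun := fun z => ∑ i, (φ i (z : P)).shift 1 • F (e i)
      map_add' := fun z z' => by
        rw [← Finset.sum_add_distrib]
        refine Finset.sum_congr rfl fun i _ => ?_
        rw [← add_smul]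
        congr 1
        apply verschiebung_injective (p := p) (R := R)
        rw [map_add (verschiebung (p := p) (R := R)), eq_V_shift (hφ (z + z') i), eq_V_shift (hφ z i),
          eq_V_shift (hφ z' i)]
        simp
      map_smul' := fun a z => by
        rw [Finset.smul_sum]
        refine Finset.sum_congr rfl fun i _ => ?_
        rw [smul_smul]
        congr 1
        apply verschiebung_injective (p := p) (R := R)
        rw [eq_V_shift (hφ (a • z) i), ← mul_V, eq_V_shift (hφ z i)]
        simp }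
  refine ⟨G, fun w x => ?_⟩
  change (∑ i, (φ i (verschiebung w • x)).shift 1 • F (e i)) = _
  conv_rhs => rw [← he x, map_sum, Finset.smul_sum]
  refine Finset.sum_congr rfl fun i _ => ?_
  rw [map_smul, map_smulₛₗ F, smul_smul]
  congr 1
  rw [smul_eq_mul, V_mul, shift_V]

noncomputable def gMap (F : P →ₛₗ[(WittVector.frobenius : WittVector p R →+* WittVector p R)] P) : IVP p R P →ₛₗ[(WittVector.frobenius : WittVector p R →+* WittVector p R)] P := (exists_G F).choose

theorem gMap_apply (F : P →ₛₗ[(WittVector.frobenius : WittVector p R →+* WittVector p R)] P) (w : (WittVector p R)) (x : P) :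
    gMap F ⟨verschiebung w • x, V_smul_mem w x⟩ = w • F x := (exists_G F).choose_spec w x

theorem gMap_V_smul (F : P →ₛₗ[(WittVector.frobenius : WittVector p R →+* WittVector p R)] P) (w : (WittVector p R)) (x : P) {h : verschiebung w • x ∈ IVP p R P} :
    gMap F ⟨verschiebung w • x, h⟩ = w • F x := (exists_G F).choose_spec w x

section Mk

variable (π : P →ₗ[(WittVector p R)] P) (hπ : ∀ x, π (π x) = π x) (Φ : P →ₛₗ[(WittVector.frobenius : WittVector p R →+* WittVector p R)] P)

/-- the submodule `Q` of a projection -/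
noncomputable def qOf : Submodule (WittVector p R) P := (IVP p R P).comap (LinearMap.id - π)

omit [Module.Finite (WittVector p R) P] [Module.Projective (WittVector p R) P] in
theorem mem_qOf {x : P} : x ∈ qOf π ↔ x - π x ∈ IVP p R P := Iff.rfl

omit [Module.Finite (WittVector p R) P] [Module.Projective (WittVector p R) P] in
theorem IVP_le_qOf : IVP p R P ≤ qOf π := fun x hx =>
  mem_qOf π |>.2 ((IVP p R P).sub_mem hx (map_mem_smul_top π hx))

/-- `x ↦ x - π x` on `Q` -/
noncomputable def qT : qOf π →ₗ[(WittVector p R)] IVP p R P :=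
  LinearMap.codRestrict _ (((LinearMap.id - π : P →ₗ[WittVector p R] P)) ∘ₗ (qOf π).subtype) fun x => mem_qOf π |>.1 x.2

/-- `F` of the display of `(π, Φ)` -/
noncomputable def fOf : P →ₛₗ[(WittVector.frobenius : WittVector p R →+* WittVector p R)] P := (p : (WittVector p R)) • Φ.comp π + Φ.comp (LinearMap.id - π)

omit [Module.Finite (WittVector p R) P] [Module.Projective (WittVector p R) P] in
theorem fOf_apply (x : P) : fOf π Φ x = (p : (WittVector p R)) • Φ (π x) + Φ (x - π x) := rfl

/-- `V⁻¹` of the display of `(π, Φ)` -/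
noncomputable def vinvOf : qOf π →ₛₗ[(WittVector.frobenius : WittVector p R →+* WittVector p R)] P := Φ.comp (π ∘ₗ (qOf π).subtype) + (gMap Φ).comp (qT π)

theorem vinvOf_apply (x : P) (h : x ∈ qOf π) :
    vinvOf π Φ ⟨x, h⟩ = Φ (π x) + gMap Φ ⟨x - π x, h⟩ := rfl

theorem vinvOf_V_smul (w : (WittVector p R)) (x : P) (h : verschiebung w • x ∈ qOf π) :
    vinvOf π Φ ⟨_, h⟩ = w • fOf π Φ x := by
  rw [vinvOf_apply, fOf_apply, smul_add]
  congr 1
  · rw [map_smul, map_smulₛₗ, frobenius_V, smul_smul, mul_comm]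
  · rw [← gMap_apply Φ w (x - π x)]
    congr 1
    exact Subtype.ext (by simp [smul_sub])

include hπ

/-- the 3n-display of a projection `π` and a semilinear `Φ` whose image generates -/
noncomputable def mk (hΦ : Submodule.span (WittVector p R) (Set.range Φ) = ⊤) : Display3n p R P where
  Q := qOf π
  F := fOf π Φ
  Vinv := vinvOf π Φ
  finite := inferInstance
  projective := inferInstance
  IV_smul_le := IVP_le_qOf π
  exists_normal := by
    refine ⟨LinearMap.range π, LinearMap.ker π, ?_, ?_⟩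
    · refine IsCompl.of_eq ?_ ?_
      · refine eq_bot_iff.2 ?_
        rintro x ⟨⟨y, rfl⟩, hx⟩
        have hx' : π (π y) = 0 := hx
        rw [hπ] at hx'
        simp [hx']
      · refine eq_top_iff.2 fun x _ => Submodule.mem_sup.2 ⟨π x, ⟨x, rfl⟩, x - π x, ?_, add_sub_cancel _ _⟩
        simp [LinearMap.mem_ker, hπ]
    · refine le_antisymm (fun x hx => ?_) (sup_le ?_ ?_)
      · refine Submodule.mem_sup.2 ⟨π x, ⟨x, rfl⟩, x - π x, ?_, add_sub_cancel _ _⟩
        have h1 : (LinearMap.id - π : P →ₗ[WittVector p R] P) (x - π x) = x - π x := by simp [hπ]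
        rw [← h1]
        have h2 := Submodule.mem_map_of_mem (f := (LinearMap.id - π : P →ₗ[WittVector p R] P)) (mem_qOf π |>.1 hx)
        rw [Submodule.map_smul'', Submodule.map_top] at h2
        exact Submodule.smul_mono le_rfl (by rintro _ ⟨z, rfl⟩; simp [LinearMap.mem_ker, hπ]) h2
      · rintro _ ⟨y, rfl⟩
        simp [mem_qOf, hπ]
      · exact le_trans (Submodule.smul_mono le_rfl le_top) (IVP_le_qOf π)
  span_range_Vinv := by
    refine eq_top_iff.2 (hΦ ▸ Submodule.span_le.2 ?_)
    rintro _ ⟨y, rfl⟩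
    have h1 : π y ∈ qOf π := by simp [mem_qOf, hπ]
    have h2 : Φ y = vinvOf π Φ ⟨π y, h1⟩ +
        vinvOf π Φ ⟨verschiebung 1 • (y - π y), IVP_le_qOf π (V_smul_mem _ _)⟩ := by
      rw [vinvOf_V_smul, vinvOf_apply, fOf_apply, one_smul]
      have h3 : (⟨π y - π (π y), h1⟩ : IVP p R P) = 0 := Subtype.ext (by simp [hπ])
      rw [h3, map_zero, add_zero, hπ, map_sub π, hπ, sub_self, map_zero, smul_zero, zero_add, sub_zero,
        ← map_add, add_sub_cancel]
    rw [SetLike.mem_coe, h2]
    exact add_mem (Submodule.subset_span ⟨_, rfl⟩) (Submodule.subset_span ⟨_, rfl⟩)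
  Vinv_verschiebung_smul w x := vinvOf_V_smul π Φ w x _

variable (hΦ : Submodule.span (WittVector p R) (Set.range Φ) = ⊤)

@[simp] theorem mk_Q : (mk π hπ Φ hΦ).Q = qOf π := rfl
@[simp] theorem mk_F : (mk π hπ Φ hΦ).F = fOf π Φ := rfl

theorem mk_Vinv_apply (x : P) (h : x ∈ (mk π hπ Φ hΦ).Q) :
    (mk π hπ Φ hΦ).Vinv ⟨x, h⟩ = Φ (π x) + gMap Φ ⟨x - π x, h⟩ := rfl

theorem mk_Vinv_of_fixed (x : P) (hx : π x = x) (h : x ∈ (mk π hπ Φ hΦ).Q) :
    (mk π hπ Φ hΦ).Vinv ⟨x, h⟩ = Φ x := by
  rw [mk_Vinv_apply]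
  have h3 : (⟨x - π x, h⟩ : IVP p R P) = 0 := Subtype.ext (by simp [hx])
  rw [h3, map_zero, add_zero, hx]

end Mk

omit [Module.Finite (WittVector p R) P] [Module.Projective (WittVector p R) P]

theorem F_eq_Vinv (D : Display3n p R P) (x : P) :
    D.F x = D.Vinv ⟨verschiebung 1 • x, D.IV_smul_le (V_smul_mem 1 x)⟩ := by
  rw [D.Vinv_verschiebung_smul, one_smul]

theorem F_eq_smul_Vinv (D : Display3n p R P) (x : P) (hx : x ∈ D.Q) :
    D.F x = (p : (WittVector p R)) • D.Vinv ⟨x, hx⟩ := by
  rw [F_eq_Vinv]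
  rw [show (⟨verschiebung 1 • x, D.IV_smul_le (V_smul_mem 1 x)⟩ : D.Q) = verschiebung (1 : (WittVector p R)) • ⟨x, hx⟩ from rfl,
    map_smulₛₗ, frobenius_V, mul_one]

theorem display_ext {D D' : Display3n p R P} (hQ : D.Q = D'.Q)
    (hV : ∀ (x : P) (h : x ∈ D.Q) (h' : x ∈ D'.Q), D.Vinv ⟨x, h⟩ = D'.Vinv ⟨x, h'⟩) : D = D' := by
  have hF : D.F = D'.F := LinearMap.ext fun x => by
    rw [F_eq_Vinv D, F_eq_Vinv D']; exact hV _ _ _
  obtain ⟨Q, F, V, _, _, _, _, _, _⟩ := D
  obtain ⟨Q', F', V', _, _, _, _, _, _⟩ := D'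
  subst hQ hF
  have : V = V' := LinearMap.ext fun ⟨x, h⟩ => hV x h h
  subst this
  rfl

/-- every 3n-display with a normal decomposition is of the form `mk` -/
theorem exists_eq_mk (D : Display3n p R P) (L T : Submodule (WittVector p R) P) (hLT : IsCompl L T)
    (hQ : D.Q = L ⊔ IV p R • T) :
    haveI := D.finite
    haveI := D.projective
    ∃ (π : P →ₗ[(WittVector p R)] P) (hπ : ∀ x, π (π x) = π x) (Φ : P →ₛₗ[(WittVector.frobenius : WittVector p R →+* WittVector p R)] P)
      (hΦ : Submodule.span (WittVector p R) (Set.range Φ) = ⊤),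
      D = mk π hπ Φ hΦ ∧ LinearMap.range π = L ∧ LinearMap.ker π = T := by
  haveI := D.finite
  haveI := D.projective
  let π := L.subtype ∘ₗ Submodule.projectionOnto L T hLT
  have hπ : ∀ x, π (π x) = π x := fun x => by simp [π]
  have hrange : LinearMap.range π = L := by
    rw [LinearMap.range_comp, Submodule.range_projectionOnto, Submodule.map_top, Submodule.range_subtype]
  have hker : LinearMap.ker π = T := by
    rw [LinearMap.ker_comp_of_ker_eq_bot _ L.ker_subtype, Submodule.ker_projectionOnto]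
  have hL : ∀ x, π x ∈ D.Q := fun x => hQ ▸ Submodule.mem_sup_left (hrange ▸ ⟨x, rfl⟩)
  have hTker : ∀ x, x - π x ∈ T := fun x => hker ▸ (by simp [LinearMap.mem_ker, hπ])
  have hQ' : ∀ x, x ∈ D.Q ↔ x - π x ∈ IVP p R P := by
    intro x
    constructor
    · intro hx
      rw [hQ] at hx
      obtain ⟨l, hl, t, ht, rfl⟩ := Submodule.mem_sup.1 hx
      have h1 : π l = l := by obtain ⟨y, rfl⟩ := hrange ▸ hl; exact hπ y
      have h2 : π t = 0 := LinearMap.mem_ker.1 (hker ▸ Submodule.smul_le_right ht)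
      rw [map_add, h1, h2, add_zero, add_sub_cancel_left]
      exact Submodule.smul_mono le_rfl le_top ht
    · intro hx
      rw [← add_sub_cancel (π x) x]
      exact D.Q.add_mem (hL x) (D.IV_smul_le hx)
  let Φ : P →ₛₗ[(WittVector.frobenius : WittVector p R →+* WittVector p R)] P := D.Vinv.comp (LinearMap.codRestrict D.Q π hL) + D.F.comp (LinearMap.id - π)
  have hΦapp : ∀ x, Φ x = D.Vinv ⟨π x, hL x⟩ + D.F (x - π x) := fun x => rfl
  have hΦker : ∀ x, π x = 0 → Φ x = D.F x := fun x hx => by
    rw [hΦapp]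
    simp only [hx, sub_zero]
    rw [show (⟨0, _⟩ : D.Q) = 0 from rfl, map_zero, zero_add]
  have key : ∀ (x : P) (hx : x ∈ D.Q), D.Vinv ⟨x, hx⟩ = Φ (π x) + gMap Φ ⟨x - π x, (hQ' x).1 hx⟩ := by
    intro x hx
    have hG : ∀ z : IVP p R P, π z = 0 → gMap Φ z = D.Vinv ⟨z, D.IV_smul_le z.2⟩ := by
      have aux : ∀ z : IVP p R P, gMap Φ ⟨(z : P) - π z, (IVP p R P).sub_mem z.2 (map_mem_smul_top π z.2)⟩ =
          D.Vinv ⟨(z : P) - π z, D.IV_smul_le ((IVP p R P).sub_mem z.2 (map_mem_smul_top π z.2))⟩ := by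
        intro z
        induction z using IVP_induction with
        | gen w y =>
          simp only [map_smul, ← smul_sub]
          rw [gMap_V_smul, D.Vinv_verschiebung_smul, hΦker _ (by simp [hπ])]
        | add a b ha hb =>
          have := congrArg₂ (· + ·) ha hb
          simp only [← map_add] at this
          convert this using 2 <;> exact Subtype.ext (by simp [add_sub_add_comm])
      intro z hz
      have := aux z
      simpa [hz] using this
    rw [hG ⟨x - π x, _⟩ (by simp [hπ]), hΦapp]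
    simp only [hπ, sub_self, map_zero, add_zero]
    rw [← map_add]
    congr 1
    exact Subtype.ext (by simp)
  refine ⟨π, hπ, Φ, ?_, ?_, hrange, hker⟩
  · rw [← top_le_iff, ← D.span_range_Vinv, Submodule.span_le]
    rintro _ ⟨⟨x, hx⟩, rfl⟩
    rw [key x hx]
    refine add_mem (Submodule.subset_span ⟨_, rfl⟩) ?_
    generalize (⟨x - π x, (hQ' x).1 hx⟩ : IVP p R P) = z
    induction z using IVP_induction with
    | gen w y => rw [gMap_V_smul]; exact Submodule.smul_mem _ _ (Submodule.subset_span ⟨_, rfl⟩)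
    | add a b ha hb => rw [map_add]; exact add_mem ha hb
  · refine display_ext ?_ (fun x h h' => ?_)
    · exact Submodule.ext hQ'
    · rw [mk_Vinv_apply]; exact key x h

theorem exists_mk (D : Display3n p R P) :
    haveI := D.finite
    haveI := D.projective
    ∃ (π : P →ₗ[(WittVector p R)] P) (hπ : ∀ x, π (π x) = π x) (Φ : P →ₛₗ[(WittVector.frobenius : WittVector p R →+* WittVector p R)] P)
      (hΦ : Submodule.span (WittVector p R) (Set.range Φ) = ⊤), D = mk π hπ Φ hΦ := by
  obtain ⟨L, T, hLT, hQ⟩ := D.exists_normal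
  obtain ⟨π, hπ, Φ, hΦ, h, -, -⟩ := exists_eq_mk D L T hLT hQ
  exact ⟨π, hπ, Φ, hΦ, h⟩

theorem lift_surjective_of_span {Φ : P →ₛₗ[(WittVector.frobenius : WittVector p R →+* WittVector p R)] P} (hΦ : Submodule.span (WittVector p R) (Set.range Φ) = ⊤) :
    Function.Surjective (BC.lift (WittVector.frobenius : WittVector p R →+* WittVector p R) Φ) := by
  rw [← LinearMap.range_eq_top, ← top_le_iff, ← hΦ, Submodule.span_le]
  rintro _ ⟨x, rfl⟩
  exact ⟨BC.ι (WittVector.frobenius : WittVector p R →+* WittVector p R) P x, BC.lift_ι (WittVector.frobenius : WittVector p R →+* WittVector p R) Φ x⟩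

end Groth.Misc5Disp
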