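import Groth.Agent.Misc5Disp.Witt
import Groth.Agent.Misc5Disp.Tensor
import Mathlib.LinearAlgebra.Basis.Basic

set_option autoImplicit false

universe u v w z z'

namespace Groth.Misc5Disp

variable {W : Type u} [CommRing W] {σ : W →+* W}
variable {P₁ : Type v} [AddCommGroup P₁] [Module W P₁] {P₂ : Type w} [AddCommGroup P₂] [Module W P₂]
variable {ι : Type z}

/-- `δ ↦ F₂ ∘ δ ∘ F₁⁻¹` -/
noncomputable def conjF (b c : Module.Basis ι W P₁) (F₂ : P₂ →ₛₗ[σ] P₂) : (P₁ →ₗ[W] P₂) →+ (P₁ →ₗ[W] P₂) where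
  toFun δ := c.constr W fun i => F₂ (δ (b i))
  map_zero' := c.ext fun i => by simp
  map_add' a a' := c.ext fun i => by simp

theorem conjF_apply {b c : Module.Basis ι W P₁} {F₁ : P₁ →ₛₗ[σ] P₁} {F₂ : P₂ →ₛₗ[σ] P₂}
    (hc : ∀ i, c i = F₁ (b i)) (δ : P₁ →ₗ[W] P₂) (x : P₁) : conjF b c F₂ δ (F₁ x) = F₂ (δ x) := by
  have hx : x ∈ Submodule.span W (Set.range b) := by rw [b.span_eq]; trivial
  induction hx using Submodule.span_induction with
  | mem y hy => obtain ⟨i, rfl⟩ := hy; rw [← hc]; simp [conjF]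
  | zero => simp only [map_zero]
  | add s t _ _ hs ht => simp only [map_add, hs, ht]
  | smul a s _ hs => simp only [map_smulₛₗ, map_smul, hs, RingHom.id_apply]

/-- `F`-equivariant maps along a thickening on which `σ` is nilpotent -/
theorem existsUnique_semilin_lift (b c : Module.Basis ι W P₁) (F₁ : P₁ →ₛₗ[σ] P₁) (F₂ : P₂ →ₛₗ[σ] P₂)
    (hc : ∀ i, c i = F₁ (b i)) (𝔠 : Ideal W) (hσ : ∀ a ∈ 𝔠, σ a ∈ 𝔠) (K : ℕ)
    (hK : ∀ a ∈ 𝔠, (⇑σ)^[K] a = 0) (α₀ : P₁ →ₗ[W] P₂)
    (hα₀ : ∀ x, F₂ (α₀ x) - α₀ (F₁ x) ∈ 𝔠 • (⊤ : Submodule W P₂)) :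
    ∃! α : P₁ →ₗ[W] P₂, (∀ x, α x - α₀ x ∈ 𝔠 • (⊤ : Submodule W P₂)) ∧ ∀ x, F₂ (α x) = α (F₁ x) := by
  set U := conjF b c F₂ with hU
  let I : ℕ → Ideal W := fun j => Ideal.span ((⇑σ)^[j] '' 𝔠)
  have hI : ∀ j, ∀ a ∈ I j, σ a ∈ I (j + 1) := by
    intro j a ha
    have : (I j).map σ ≤ I (j + 1) := by
      rw [Ideal.map_span, ← Set.image_comp, ← Function.iterate_succ']
    exact this (Ideal.mem_map_of_mem σ ha)
  have hIle : ∀ j, I j ≤ 𝔠 := by
    intro j
    refine Ideal.span_le.2 ?_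
    rintro _ ⟨a, ha, rfl⟩
    clear hI
    induction j with
    | zero => exact ha
    | succ j ih => rw [Function.iterate_succ_apply']; exact hσ _ ih
  have hIK : I K = ⊥ := Ideal.span_eq_bot.2 (by rintro _ ⟨a, ha, rfl⟩; exact hK a ha)
  have hsucc : ∀ (δ : P₁ →ₗ[W] P₂) (j : ℕ), (∀ x, δ x ∈ I j • (⊤ : Submodule W P₂)) →
      ∀ x, U δ x ∈ I (j + 1) • (⊤ : Submodule W P₂) := by
    intro δ j hδ x
    have hx : x ∈ Submodule.span W (Set.range c) := by rw [c.span_eq]; trivial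
    induction hx using Submodule.span_induction with
    | mem y hy =>
      obtain ⟨i, rfl⟩ := hy
      rw [hc, conjF_apply hc]
      exact semilinear_mem_smul_top F₂ (hI j) (hδ _)
    | zero => rw [map_zero]; exact zero_mem _
    | add s t _ _ hs ht => rw [map_add]; exact add_mem hs ht
    | smul a s _ hs => rw [map_smul]; exact Submodule.smul_mem _ a hs
  have hI0 : 𝔠 ≤ I 0 := fun a ha => Ideal.subset_span ⟨a, ha, rfl⟩
  have hiter : ∀ δ : P₁ →ₗ[W] P₂, (∀ x, δ x ∈ 𝔠 • (⊤ : Submodule W P₂)) →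
      ∀ j x, (⇑U)^[j] δ x ∈ I j • (⊤ : Submodule W P₂) := by
    intro δ hδ j
    induction j with
    | zero => exact fun x => Submodule.smul_mono hI0 le_rfl (hδ x)
    | succ j ih => rw [Function.iterate_succ_apply']; exact hsucc _ j ih
  have hkill : ∀ δ : P₁ →ₗ[W] P₂, (∀ x, δ x ∈ 𝔠 • (⊤ : Submodule W P₂)) → (⇑U)^[K] δ = 0 := fun δ hδ =>
    LinearMap.ext fun x => by simpa [hIK] using hiter δ hδ K x
  let η := U α₀ - α₀
  have hη : ∀ x, η x ∈ 𝔠 • (⊤ : Submodule W P₂) := by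
    intro x
    have hx : x ∈ Submodule.span W (Set.range c) := by rw [c.span_eq]; trivial
    induction hx using Submodule.span_induction with
    | mem y hy =>
      obtain ⟨i, rfl⟩ := hy
      simp only [η, LinearMap.sub_apply]
      rw [hc, conjF_apply hc]
      exact hα₀ _
    | zero => rw [map_zero]; exact zero_mem _
    | add s t _ _ hs ht => rw [map_add]; exact add_mem hs ht
    | smul a s _ hs => rw [map_smul]; exact Submodule.smul_mem _ a hs
  let δ := ∑ j ∈ Finset.range K, (⇑U)^[j] η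
  have hfix : U (α₀ + δ) = α₀ + δ := by
    have h1 : U δ + η = δ := by
      have h := Finset.sum_range_succ' (fun j => (⇑U)^[j] η) K
      rw [Finset.sum_range_succ, hkill η hη, add_zero] at h
      simp only [Function.iterate_succ_apply', Function.iterate_zero, id_eq] at h
      simp only [δ, map_sum]
      exact h.symm
    rw [map_add]
    calc U α₀ + U δ = α₀ + (U δ + η) := by simp only [η]; abel
      _ = α₀ + δ := by rw [h1]
  refine ⟨α₀ + δ, ⟨fun x => ?_, fun x => ?_⟩, fun α hα => ?_⟩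
  · rw [LinearMap.add_apply, add_sub_cancel_left]
    simp only [δ, LinearMap.sum_apply]
    exact Submodule.sum_mem _ fun j _ => Submodule.smul_mono (hIle j) le_rfl (hiter η hη j x)
  · rw [← conjF_apply hc]
    exact LinearMap.congr_fun hfix (F₁ x)
  · have hUα : U α = α := c.ext fun i => by rw [hc, conjF_apply hc, hα.2]
    have hd : ∀ x, (α - (α₀ + δ)) x ∈ 𝔠 • (⊤ : Submodule W P₂) := fun x => by
      rw [LinearMap.sub_apply, LinearMap.add_apply, ← sub_sub]
      refine sub_mem (hα.1 x) ?_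
      simp only [δ, LinearMap.sum_apply]
      exact Submodule.sum_mem _ fun j _ => Submodule.smul_mono (hIle j) le_rfl (hiter η hη j x)
    have hU' : U (α - (α₀ + δ)) = α - (α₀ + δ) := by rw [map_sub, hUα, hfix]
    have := hkill _ hd
    rwa [Function.iterate_fixed hU', sub_eq_zero] at this

end Groth.Misc5Disp
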