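import Groth.Agent.Misc5Disp.Core
import Groth.Agent.Misc5Disp.Complete
import Mathlib.Algebra.Module.Torsion.Basic
import Mathlib.RingTheory.Nakayama
import Mathlib.LinearAlgebra.Dimension.Finite
import Mathlib.LinearAlgebra.Dimension.OrzechProperty
import Mathlib.LinearAlgebra.FiniteDimensional.Lemmas

set_option autoImplicit false

universe u v

namespace Groth.Misc5Disp

open WittVector W4c1extbt610 Dieu

variable {p : ℕ} [hp : Fact p.Prime] {R : Type u} [CommRing R]
variable {P : Type v} [AddCommGroup P] [Module (WittVector p R) P]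

local notation "fr" => WittVector.frobenius

theorem frobenius_sub_pow_mem (a : WittVector p R) :
    fr a - a ^ p ∈ IV p R ⊔ Ideal.span {(p : WittVector p R)} := by
  let c := MvPolynomial.aeval a.coeff (WittVector.frobeniusPolyAux p 0)
  have h : fr a - a ^ p - (p : WittVector p R) * WittVector.teichmuller p c ∈ IV p R := by
    rw [mem_IV_iff]
    change WittVector.constantCoeff (fr a - a ^ p - (p : WittVector p R) * WittVector.teichmuller p c) = 0
    rw [map_sub, map_sub, map_pow, map_mul, map_natCast]
    change (fr a).coeff 0 - a.coeff 0 ^ p - (p : R) * (WittVector.teichmuller p c).coeff 0 = 0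
    rw [coeff_frobenius, WittVector.frobeniusPoly, map_add, map_mul, map_pow, MvPolynomial.aeval_X,
      MvPolynomial.aeval_C, teichmuller_coeff_zero]
    simp [c]
  rw [← sub_add_cancel (fr a - a ^ p) ((p : WittVector p R) * WittVector.teichmuller p c)]
  exact Submodule.add_mem_sup h (Ideal.mem_span_singleton.2 (Dvd.intro _ rfl))

theorem frobenius_mem_maximal [IsAdicComplete (Ideal.span {(p : R)}) R] {m : Ideal (WittVector p R)}
    [m.IsMaximal] {a : WittVector p R} (ha : a ∈ m) : fr a ∈ m := by
  obtain ⟨h1, h2⟩ := mem_of_isMaximal (p := p) m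
  have h : IV p R ⊔ Ideal.span {(p : WittVector p R)} ≤ m :=
    sup_le h1 ((Ideal.span_singleton_le_iff_mem _).2 h2)
  rw [← sub_add_cancel (fr a) (a ^ p)]
  exact m.add_mem (h (frobenius_sub_pow_mem a)) (Ideal.pow_mem_of_mem _ ha _ hp.out.pos)

variable [Module.Finite (WittVector p R) P] [Module.Projective (WittVector p R) P]

/-- a generating semilinear endomorphism of a finite projective module is a semilinear isomorphism -/
theorem lift_bijective [IsAdicComplete (Ideal.span {(p : R)}) R]
    {Φ : P →ₛₗ[(fr : WittVector p R →+* WittVector p R)] P}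
    (hΦ : Submodule.span (WittVector p R) (Set.range Φ) = ⊤) :
    Function.Bijective (BC.lift (fr : WittVector p R →+* WittVector p R) Φ) := by
  set l := BC.lift (fr : WittVector p R →+* WittVector p R) Φ with hl
  have hs : Function.Surjective l := lift_surjective_of_span hΦ
  obtain ⟨s, hs'⟩ := Module.projective_lifting_property l LinearMap.id hs
  refine ⟨?_, hs⟩
  rw [← LinearMap.ker_eq_bot]
  set K := LinearMap.ker l
  have := bc_finite (g := (fr : WittVector p R →+* WittVector p R)) (P := P)
  let e : BC (fr : WittVector p R →+* WittVector p R) P →ₗ[WittVector p R]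
      BC (fr : WittVector p R →+* WittVector p R) P := LinearMap.id - s ∘ₗ l
  have hls : ∀ z, l (s z) = z := fun z => LinearMap.congr_fun hs' z
  have hKfg : K.FG := by
    have : K = LinearMap.range e := by
      refine le_antisymm (fun z hz => ⟨z, by simp [e, LinearMap.mem_ker.1 hz]⟩) ?_
      rintro _ ⟨z, rfl⟩
      simp [e, K, hls]
    rw [this, LinearMap.range_eq_map]
    exact Submodule.FG.map _ Module.Finite.fg_top
  have hann : K.annihilator = ⊤ := by
    by_contra hne
    obtain ⟨m, hm, hle⟩ := Ideal.exists_le_maximal _ hne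
    letI := Ideal.Quotient.field m
    have hKm : K ≤ m • K := by
      intro z hz
      let V := P ⧸ (m • ⊤ : Submodule (WittVector p R) P)
      have : Module.Finite (WittVector p R ⧸ m) V := Module.Finite.of_restrictScalars_finite (WittVector p R) _ _
      let b := Module.finBasis (WittVector p R ⧸ m) V
      choose x hx using fun i => Submodule.Quotient.mk_surjective _ (b i)
      let d := Module.finrank (WittVector p R ⧸ m) V
      let T := BC (fr : WittVector p R →+* WittVector p R) P
      let u : Fin d → T := fun i => BC.tmul _ 1 (x i)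
      have hgen : ∀ y : T, y ∈ Submodule.span (WittVector p R) (Set.range u) ⊔ m • ⊤ := by
        have hP : ∀ y : P, y ∈ Submodule.span (WittVector p R) (Set.range x) ⊔ m • ⊤ := by
          intro y
          choose c hc using fun i => Ideal.Quotient.mk_surjective (b.repr (Submodule.Quotient.mk y) i)
          refine Submodule.mem_sup.2 ⟨∑ i, c i • x i, Submodule.sum_mem _ fun i _ =>
            Submodule.smul_mem _ _ (Submodule.subset_span ⟨i, rfl⟩), y - ∑ i, c i • x i, ?_, by simp⟩
          rw [← Submodule.Quotient.mk_eq_zero, Submodule.Quotient.mk_sub, sub_eq_zero]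
          conv_lhs => rw [← b.sum_repr (Submodule.Quotient.mk y)]
          show _ = Submodule.mkQ _ (∑ i, c i • x i)
          rw [map_sum]
          refine Finset.sum_congr rfl fun i _ => ?_
          rw [← hc, map_smul, Submodule.mkQ_apply, hx]
          rfl
        intro y
        induction y using BC.induction_on _ with
        | zero => exact zero_mem _
        | tmul w y =>
          rw [BC.tmul_eq_smul_tmul_one]
          refine Submodule.smul_mem _ _ ?_
          obtain ⟨q, hq, r, hr, rfl⟩ := Submodule.mem_sup.1 (hP y)
          rw [BC.tmul_add]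
          refine add_mem (Submodule.mem_sup_left ?_) (Submodule.mem_sup_right ?_)
          · rw [← BC.ι_apply (WittVector.frobenius : WittVector p R →+* WittVector p R)]
            clear hr hz
            induction hq using Submodule.span_induction with
            | mem y hy => obtain ⟨i, rfl⟩ := hy; exact Submodule.subset_span ⟨i, rfl⟩
            | zero => rw [map_zero]; exact zero_mem _
            | add a c _ _ h₁ h₂ => rw [map_add]; exact add_mem h₁ h₂
            | smul a c _ h => rw [map_smulₛₗ]; exact Submodule.smul_mem _ _ h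
          · exact semilinear_mem_smul_top (BC.ι _ P) (fun a ha => frobenius_mem_maximal ha) hr
        | add _ _ h₁ h₂ => exact add_mem h₁ h₂
      have hli : LinearIndependent (WittVector p R ⧸ m)
          (fun i => (Submodule.Quotient.mk (Φ (x i)) : V)) := by
        refine linearIndependent_of_top_le_span_of_card_eq_finrank (fun v hv => ?_) (Fintype.card_fin d)
        clear hv
        obtain ⟨v, rfl⟩ := Submodule.Quotient.mk_surjective _ v
        obtain ⟨y, rfl⟩ := hs v
        obtain ⟨q, hq, r, hr, rfl⟩ := Submodule.mem_sup.1 (hgen y)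
        rw [map_add, Submodule.Quotient.mk_add, (Submodule.Quotient.mk_eq_zero _).2 (map_mem_smul_top l hr),
          add_zero]
        clear hr hz
        induction hq using Submodule.span_induction with
        | mem z hz =>
          obtain ⟨i, rfl⟩ := hz
          refine Submodule.subset_span ⟨i, ?_⟩
          simp [u, hl]
        | zero => simp
        | add a c _ _ h₁ h₂ => rw [map_add, Submodule.Quotient.mk_add]; exact add_mem h₁ h₂
        | smul a c _ h =>
          rw [map_smul]
          exact Submodule.smul_mem _ (Ideal.Quotient.mk m a) h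
      obtain ⟨q, hq, r, hr, hqr⟩ := Submodule.mem_sup.1 (hgen z)
      obtain ⟨c, hc⟩ := (Submodule.mem_span_range_iff_exists_fun _).1 hq
      have hzero : ∑ i, Ideal.Quotient.mk m (c i) • (Submodule.Quotient.mk (Φ (x i)) : V) = 0 := by
        have h0 : l q + l r = 0 := by rw [← map_add, hqr]; exact LinearMap.mem_ker.1 hz
        have h1 := congrArg (Submodule.mkQ (m • ⊤ : Submodule (WittVector p R) P)) h0
        rw [map_add, map_zero, Submodule.mkQ_apply, Submodule.mkQ_apply,
          (Submodule.Quotient.mk_eq_zero _).2 (map_mem_smul_top l hr), add_zero, ← hc, map_sum] at h1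
        rw [← Submodule.mkQ_apply, map_sum] at h1
        refine Eq.trans (Finset.sum_congr rfl fun i _ => ?_) h1
        simp [u, hl]
      have hcm : ∀ i, c i ∈ m := fun i =>
        Ideal.Quotient.eq_zero_iff_mem.1 (Fintype.linearIndependent_iff.1 hli _ hzero i)
      have hzm : z ∈ (m • ⊤ : Submodule (WittVector p R) T) := by
        rw [← hqr, ← hc]
        exact add_mem (Submodule.sum_mem _ fun i _ => Submodule.smul_mem_smul (hcm i) Submodule.mem_top) hr
      have hez : e z = z := by simp [e, LinearMap.mem_ker.1 hz]
      rw [← hez]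
      have h2 := Submodule.mem_map_of_mem (f := e) hzm
      rw [Submodule.map_smul'', Submodule.map_top] at h2
      exact Submodule.smul_mono le_rfl (by rintro _ ⟨y, rfl⟩; simp [e, K, hls]) h2
    obtain ⟨r, hr1, hr2⟩ := Submodule.exists_sub_one_mem_and_smul_eq_zero_of_fg_of_le_smul m K hKfg hKm
    have : r ∈ m := hle (Submodule.mem_annihilator.2 hr2)
    exact hm.ne_top (m.eq_top_iff_one.2 (by simpa using m.sub_mem this hr1))
  refine eq_bot_iff.2 fun z hz => ?_
  have h1 : (1 : WittVector p R) ∈ K.annihilator := by rw [hann]; trivial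
  simpa using Submodule.mem_annihilator.1 h1 z hz

omit [Module.Finite (WittVector p R) P] [Module.Projective (WittVector p R) P]

theorem vSharp_unique (D : Display3n p R P) {V₁ V₂} (h₁ : IsVSharp D V₁) (h₂ : IsVSharp D V₂) : V₁ = V₂ := by
  refine LinearMap.ext_on D.span_range_Vinv ?_
  rintro _ ⟨y, rfl⟩
  rw [← one_smul (WittVector p R) (D.Vinv y), h₁.app_smul_Vinv, h₂.app_smul_Vinv]

theorem vSharp_comp_lift (D : Display3n p R P) {Vs} (h : IsVSharp D Vs) :
    (BC.lift (fr : WittVector p R →+* WittVector p R) D.F).comp Vs = (p : WittVector p R) • LinearMap.id ∧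
      Vs.comp (BC.lift (fr : WittVector p R →+* WittVector p R) D.F) = (p : WittVector p R) • LinearMap.id := by
  constructor
  · refine LinearMap.ext_on D.span_range_Vinv ?_
    rintro _ ⟨y, rfl⟩
    rw [LinearMap.comp_apply, ← one_smul (WittVector p R) (D.Vinv y), h.app_smul_Vinv, BC.lift_tmul, one_smul,
      LinearMap.smul_apply, LinearMap.id_apply, one_smul]
    exact F_eq_smul_Vinv D y y.2
  · refine BC.ext _ fun x => ?_
    rw [LinearMap.comp_apply, BC.lift_tmul, h.app_smul_F, LinearMap.smul_apply, LinearMap.id_apply]

theorem exists_isVSharp [IsAdicComplete (Ideal.span {(p : R)}) R] (D : Display3n p R P) :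
    ∃ Vs, IsVSharp D Vs := by
  have := D.finite
  have := D.projective
  obtain ⟨π, hπ, Φ, hΦ, hD⟩ := exists_mk D
  rw [hD]
  let e := LinearEquiv.ofBijective _ (lift_bijective hΦ)
  let g : P →ₗ[WittVector p R] P := π + (p : WittVector p R) • (LinearMap.id - π)
  let Vs := (BC.map (fr : WittVector p R →+* WittVector p R) g) ∘ₗ e.symm.toLinearMap
  have hVs : ∀ x, Vs (Φ x) = BC.tmul _ 1 (π x + (p : WittVector p R) • (x - π x)) := fun x => by
    have : e.symm (Φ x) = BC.tmul _ 1 x := by rw [LinearEquiv.symm_apply_eq]; simp [e]
    simp [Vs, this, g]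
  refine ⟨Vs, ⟨fun w x => ?_, fun w y => ?_⟩⟩
  · rw [mk_F, fOf_apply, map_smul, map_add, map_smul, hVs, hVs, hπ, sub_self, smul_zero, add_zero, map_sub π,
      hπ, sub_self, zero_add, sub_zero, tmul_smul, map_natCast]
    rw [← smul_add, ← BC.tmul_add, add_sub_cancel, smul_comm, BC.smul_tmul, mul_one]
  · obtain ⟨y, hy⟩ := y
    rw [mk_Vinv_apply, map_smul, map_add, hVs, hπ, sub_self, smul_zero, add_zero]
    have hG : ∀ z : IVP p R P, π z = 0 → Vs (gMap Φ z) = BC.tmul _ 1 (z : P) := by
      have aux : ∀ z : IVP p R P, Vs (gMap Φ ⟨(z : P) - π z, (IVP p R P).sub_mem z.2 (map_mem_smul_top π z.2)⟩) =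
          BC.tmul _ 1 ((z : P) - π z) := by
        intro z
        induction z using IVP_induction with
        | gen w y =>
          simp only [map_smul, ← smul_sub]
          rw [gMap_V_smul, map_smul, hVs, map_sub π, hπ, sub_self, zero_add, sub_zero, tmul_smul, map_natCast,
            tmul_smul, frobenius_V, smul_smul, mul_comm]
        | add a b ha hb =>
          have := congrArg₂ (· + ·) ha hb
          simp only [← map_add, ← BC.tmul_add] at this
          convert this using 2
          · congr 1; exact Subtype.ext (by simp [add_sub_add_comm])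
          · simp [add_sub_add_comm]
      intro z hz
      simpa [hz] using aux z
    rw [hG ⟨y - π y, hy⟩ (by simp [hπ]), ← BC.tmul_add, add_sub_cancel, BC.smul_tmul, mul_one]

end Groth.Misc5Disp
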