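import Groth.Agent.Misc5Disp.Coker
import Groth.Agent.Misc5Disp.VSharp
import Mathlib.RingTheory.WittVector.Complete

set_option autoImplicit false

universe u v w

namespace Groth.Misc5Disp

open WittVector W4c1extbt610

variable {p : ℕ} [hp : Fact p.Prime] {k : Type u} [CommRing k] [CharP k p]
variable {M : Type v} [AddCommGroup M] [Module (WittVector p k) M]

local notation "pp" => Ideal.span ({(p : WittVector p k)} : Set (WittVector p k))

theorem mem_WI_of_frobenius_mem {q : Ideal k} (hq : q.IsRadical) {y : WittVector p k}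
    (h : WittVector.frobenius y ∈ WI (p := p) q) : y ∈ WI (p := p) q :=
  mem_WI.2 fun n => hq ⟨p, by have := mem_WI.1 h n; rwa [coeff_frobenius_charP] at this⟩

theorem frobenius_mem_WI_charP {q : Ideal k} {y : WittVector p k} (h : y ∈ WI (p := p) q) :
    WittVector.frobenius y ∈ WI (p := p) q :=
  mem_WI.2 fun n => by rw [coeff_frobenius_charP]; exact q.pow_mem_of_mem (mem_WI.1 h n) p hp.out.pos

theorem mem_WI_of_p_mul_mem {q : Ideal k} (hq : q.IsRadical) {a : WittVector p k}
    (h : (p : WittVector p k) * a ∈ WI (p := p) q) : a ∈ WI (p := p) q :=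
  mem_WI.2 fun n => hq ⟨p, by
    have := mem_WI.1 h (n + 1)
    rwa [← frobenius_V, coeff_frobenius_charP, verschiebung_coeff_succ] at this⟩

/-- multiplication by `p` is injective modulo `p` and `W(q)` -/
def PTorsionMod (M : Type v) [AddCommGroup M] [Module (WittVector p k) M] : Prop :=
  ∀ q : Ideal k, q.IsRadical → ∀ u : M, (p : WittVector p k) • u ∈ WI (p := p) q • (⊤ : Submodule (WittVector p k) M) →
    u ∈ pp • (⊤ : Submodule (WittVector p k) M) ⊔ WI (p := p) q • ⊤

theorem pTorsionMod_of_projective [Module.Finite (WittVector p k) M] [Module.Projective (WittVector p k) M] :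
    PTorsionMod (p := p) (k := k) M := by
  obtain ⟨r, φ, e, he⟩ := exists_dualBasis (A := WittVector p k) (P := M)
  intro q hq u hu
  refine Submodule.mem_sup_right ((mem_smul_top_iff_of_dualBasis φ e he _ _).2 fun i => mem_WI_of_p_mul_mem hq ?_)
  have := (mem_smul_top_iff_of_dualBasis φ e he _ _).1 hu i
  rwa [map_smul] at this

variable {n : ℕ} [Module (WittVector p k ⧸ Ideal.span {(p : WittVector p k) ^ n}) M]
  [IsScalarTower (WittVector p k) (WittVector p k ⧸ Ideal.span {(p : WittVector p k) ^ n}) M]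

theorem pTorsionMod_of_projective_quotient (hn : 2 ≤ n)
    [Module.Finite (WittVector p k ⧸ Ideal.span {(p : WittVector p k) ^ n}) M]
    [Module.Projective (WittVector p k ⧸ Ideal.span {(p : WittVector p k) ^ n}) M] :
    PTorsionMod (p := p) (k := k) M := by
  obtain ⟨r, φ, e, he⟩ := exists_dualBasis (A := WittVector p k ⧸ Ideal.span {(p : WittVector p k) ^ n}) (P := M)
  intro q hq u hu
  have hu' : ∀ i, φ i ((p : WittVector p k) • u) ∈ (WI (p := p) q).map (Ideal.Quotient.mk _) := by
    intro i
    refine Submodule.smul_induction_on hu (fun a ha z _ => ?_) (fun y z hy hz => by rw [map_add]; exact add_mem hy hz)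
    rw [← algebraMap_smul (WittVector p k ⧸ Ideal.span {(p : WittVector p k) ^ n}) a z, map_smul]
    exact Ideal.mul_mem_right _ _ (Ideal.mem_map_of_mem _ ha)
  rw [← he u]
  refine Submodule.sum_mem _ fun i _ => ?_
  obtain ⟨a, ha⟩ := Ideal.Quotient.mk_surjective (φ i u)
  obtain ⟨b, hb, hb'⟩ := (Ideal.mem_map_iff_of_surjective _ Ideal.Quotient.mk_surjective).1 (hu' i)
  rw [← algebraMap_smul (WittVector p k ⧸ Ideal.span {(p : WittVector p k) ^ n}) (p : WittVector p k) u, map_smul, ← ha,
    smul_eq_mul, Ideal.Quotient.algebraMap_eq, ← map_mul, Ideal.Quotient.eq] at hb'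
  obtain ⟨c, hc⟩ := Ideal.mem_span_singleton'.1 hb'
  obtain ⟨n, rfl⟩ : ∃ j, n = j + 2 := ⟨n - 2, by omega⟩
  have hmem : a + c * (p : WittVector p k) ^ (n + 1) ∈ WI (p := p) q := by
    refine mem_WI_of_p_mul_mem hq ?_
    rw [show (p : WittVector p k) * (a + c * (p : WittVector p k) ^ (n + 1)) = b by linear_combination hc]
    exact hb
  rw [← ha, ← Ideal.Quotient.algebraMap_eq, algebraMap_smul,
    show a = -(c * (p : WittVector p k) ^ n) * p + (a + c * (p : WittVector p k) ^ (n + 1)) by ring, add_smul]
  exact Submodule.add_mem_sup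
    (Submodule.smul_mem_smul (Ideal.mul_mem_left _ _ (Ideal.mem_span_singleton_self _)) Submodule.mem_top)
    (Submodule.smul_mem_smul hmem Submodule.mem_top)

omit [Module (WittVector p k ⧸ Ideal.span {(p : WittVector p k) ^ n}) M]
  [IsScalarTower (WittVector p k) (WittVector p k ⧸ Ideal.span {(p : WittVector p k) ^ n}) M]

/-- the key exactness, modulo a radical ideal -/
theorem mem_of_semilin_mem {σ τ : WittVector p k →+* WittVector p k} (F : M →ₛₗ[σ] M) (V : M →ₛₗ[τ] M)
    (hFV : ∀ m, F (V m) = (p : WittVector p k) • m) (hVF : ∀ m, V (F m) = (p : WittVector p k) • m)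
    (hH : PTorsionMod (p := p) (k := k) M) {q : Ideal k} (hq : q.IsRadical)
    (hτ : ∀ a ∈ WI (p := p) q, τ a ∈ WI (p := p) q) {x : M}
    (hx : F x ∈ pp • (⊤ : Submodule (WittVector p k) M) ⊔ WI (p := p) q • ⊤) :
    x ∈ Submodule.span (WittVector p k) (Set.range V) ⊔
      (pp • (⊤ : Submodule (WittVector p k) M) ⊔ WI (p := p) q • ⊤) := by
  obtain ⟨b, hb, z, hz, hbz⟩ := Submodule.mem_sup.1 hx
  rw [Submodule.ideal_span_singleton_smul, Submodule.mem_smul_pointwise_iff_exists] at hb
  obtain ⟨y, -, rfl⟩ := hb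
  have h : (p : WittVector p k) • (x - V y) ∈ WI (p := p) q • (⊤ : Submodule (WittVector p k) M) := by
    rw [← hVF, map_sub, hFV, ← hbz, add_sub_cancel_left]
    exact semilinear_mem_smul_top V hτ hz
  rw [← add_sub_cancel (V y) x]
  exact Submodule.add_mem_sup (Submodule.subset_span ⟨y, rfl⟩) (hH q hq _ h)

variable [PerfectRing k p]

theorem frobenius_symm_mem_WI {q : Ideal k} (hq : q.IsRadical) {y : WittVector p k} (h : y ∈ WI (p := p) q) :
    ((WittVector.frobeniusEquiv p k).symm : WittVector p k →+* WittVector p k) y ∈ WI (p := p) q :=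
  mem_WI_of_frobenius_mem hq (by
    have := (WittVector.frobeniusEquiv p k).apply_symm_apply y
    rw [WittVector.frobeniusEquiv_apply] at this
    exact (congrArg (· ∈ WI (p := p) q) this).mpr h)

theorem IV_eq_span_p : IV p k = pp := by rw [IV_eq_ker, WittVector.ker_constantCoeff]

theorem isRadical_bot_of_perfect (p : ℕ) [Fact p.Prime] (k : Type u) [CommRing k] [CharP k p] [PerfectRing k p] :
    (⊥ : Ideal k).IsRadical := by
  rintro x ⟨n, hx⟩
  rw [Ideal.mem_bot] at hx ⊢
  have h : x ^ p ^ n = 0 := pow_eq_zero_of_le (Nat.lt_pow_self (Fact.out : p.Prime).one_lt).le hx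
  clear hx
  induction n with
  | zero => simpa using h
  | succ n ih =>
    refine ih ((PerfectRing.bijective_frobenius (R := k) (p := p)).1 ?_)
    show (x ^ p ^ n) ^ p = (0 : k) ^ p
    rw [← pow_mul, ← pow_succ, h, zero_pow (Fact.out : p.Prime).ne_zero]

variable (F : M →ₛₗ[(WittVector.frobenius : WittVector p k →+* WittVector p k)] M)
  (V : M →ₛₗ[((WittVector.frobeniusEquiv p k).symm : WittVector p k →+* WittVector p k)] M)
  (hFV : ∀ m, F (V m) = (p : WittVector p k) • m) (hVF : ∀ m, V (F m) = (p : WittVector p k) • m)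
  (hH : PTorsionMod (p := p) (k := k) M)

include hFV hVF hH

theorem exactness_mod_p :
    (pp • (⊤ : Submodule (WittVector p k) M)).comap F =
        Submodule.span (WittVector p k) (Set.range V) ⊔ pp • (⊤ : Submodule (WittVector p k) M) ∧
      (pp • (⊤ : Submodule (WittVector p k) M)).comap V =
        Submodule.span (WittVector p k) (Set.range F) ⊔ pp • (⊤ : Submodule (WittVector p k) M) := by
  have hstab : ∀ {σ : WittVector p k →+* WittVector p k}, ∀ a ∈ pp, σ a ∈ pp := by
    intro σ a ha
    obtain ⟨c, rfl⟩ := Ideal.mem_span_singleton'.1 ha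
    rw [map_mul, map_natCast]
    exact Ideal.mul_mem_left _ _ (Ideal.mem_span_singleton_self _)
  constructor <;> refine le_antisymm (fun x hx => ?_) (sup_le ?_ ?_)
  · simpa [WI_bot] using mem_of_semilin_mem F V hFV hVF hH (isRadical_bot_of_perfect p k)
      (fun a ha => frobenius_symm_mem_WI (isRadical_bot_of_perfect p k) ha) (Submodule.mem_sup_left hx)
  · refine Submodule.span_le.2 ?_
    rintro _ ⟨y, rfl⟩
    rw [SetLike.mem_coe, Submodule.mem_comap, hFV]
    exact Submodule.smul_mem_smul (Ideal.mem_span_singleton_self _) Submodule.mem_top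
  · exact fun x hx => semilinear_mem_smul_top F hstab hx
  · simpa [WI_bot] using mem_of_semilin_mem V F hVF hFV hH (isRadical_bot_of_perfect p k)
      (fun a ha => frobenius_mem_WI_charP ha) (Submodule.mem_sup_left hx)
  · refine Submodule.span_le.2 ?_
    rintro _ ⟨y, rfl⟩
    rw [SetLike.mem_coe, Submodule.mem_comap, hVF]
    exact Submodule.smul_mem_smul (Ideal.mem_span_singleton_self _) Submodule.mem_top
  · exact fun x hx => semilinear_mem_smul_top V hstab hx

theorem projective_mod_V [Module.Finite (WittVector p k ⧸ pp) (M ⧸ pp • (⊤ : Submodule (WittVector p k) M))]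
    [Module.Projective (WittVector p k ⧸ pp) (M ⧸ pp • (⊤ : Submodule (WittVector p k) M))] :
    Module.Projective (WittVector p k ⧸ pp)
      ((M ⧸ (pp • (⊤ : Submodule (WittVector p k) M))) ⧸
        Submodule.span (WittVector p k ⧸ pp)
          (Set.range fun m : M => (pp • (⊤ : Submodule (WittVector p k) M)).mkQ (V m))) := by
  let σ : WittVector p k →+* WittVector p k := WittVector.frobenius
  let τ : WittVector p k →+* WittVector p k := ((WittVector.frobeniusEquiv p k).symm : WittVector p k →+* WittVector p k)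
  have hστ : ∀ a, σ (τ a) = a := fun a => by
    have := (WittVector.frobeniusEquiv p k).apply_symm_apply a
    rwa [WittVector.frobeniusEquiv_apply] at this
  have hτσ : ∀ a, τ (σ a) = a := fun a => by
    have := (WittVector.frobeniusEquiv p k).symm_apply_apply a
    rwa [WittVector.frobeniusEquiv_apply] at this
  have hstab : ∀ {σ : WittVector p k →+* WittVector p k}, ∀ a ∈ pp, σ a ∈ pp := by
    intro σ a ha
    obtain ⟨c, rfl⟩ := Ideal.mem_span_singleton'.1 ha
    rw [map_mul, map_natCast]
    exact Ideal.mul_mem_left _ _ (Ideal.mem_span_singleton_self _)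
  set J := pp • (⊤ : Submodule (WittVector p k) M)
  let σb : WittVector p k ⧸ pp →+* WittVector p k ⧸ pp := Ideal.quotientMap pp σ fun a ha => Ideal.mem_comap.2 (hstab a ha)
  let τb : WittVector p k ⧸ pp →+* WittVector p k ⧸ pp := Ideal.quotientMap pp τ fun a ha => Ideal.mem_comap.2 (hstab a ha)
  let F0 := J.liftQ (J.mkQ.comp F) fun x hx => (Submodule.Quotient.mk_eq_zero J).2 (semilinear_mem_smul_top F hstab hx)
  let V0 := J.liftQ (J.mkQ.comp V) fun x hx => (Submodule.Quotient.mk_eq_zero J).2 (semilinear_mem_smul_top V hstab hx)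
  let Fb : (M ⧸ J) →ₛₗ[σb] (M ⧸ J) :=
    { toFun := F0
      map_add' := map_add F0
      map_smul' := fun a z => by
        obtain ⟨a, rfl⟩ := Ideal.Quotient.mk_surjective a
        exact map_smulₛₗ F0 a z }
  let Vb : (M ⧸ J) →ₛₗ[τb] (M ⧸ J) :=
    { toFun := V0
      map_add' := map_add V0
      map_smul' := fun a z => by
        obtain ⟨a, rfl⟩ := Ideal.Quotient.mk_surjective a
        exact map_smulₛₗ V0 a z }
  have hset : (Set.range fun m : M => J.mkQ (V m)) = Set.range Vb := by
    refine Set.ext fun y => ⟨?_, ?_⟩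
    · rintro ⟨m, rfl⟩; exact ⟨J.mkQ m, rfl⟩
    · rintro ⟨z, rfl⟩; obtain ⟨m, rfl⟩ := Submodule.mkQ_surjective J z; exact ⟨m, rfl⟩
  rw [hset]
  refine projective_coker (σ := σb) (τ := τb) (fun a => ?_) (fun a => ?_) Fb Vb (fun z => ?_) (fun z => ?_)
    (fun m _ a => ?_) (fun m hm z hz => ?_)
  · obtain ⟨a, rfl⟩ := Ideal.Quotient.mk_surjective a
    exact congrArg (Ideal.Quotient.mk pp) (hστ a)
  · obtain ⟨a, rfl⟩ := Ideal.Quotient.mk_surjective a
    exact congrArg (Ideal.Quotient.mk pp) (hτσ a)
  · obtain ⟨m, rfl⟩ := Submodule.mkQ_surjective J z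
    show J.mkQ (F (V m)) = 0
    rw [hFV]
    exact (Submodule.Quotient.mk_eq_zero J).2 (Submodule.smul_mem_smul (Ideal.mem_span_singleton_self _) Submodule.mem_top)
  · obtain ⟨m, rfl⟩ := Submodule.mkQ_surjective J z
    show J.mkQ (V (F m)) = 0
    rw [hVF]
    exact (Submodule.Quotient.mk_eq_zero J).2 (Submodule.smul_mem_smul (Ideal.mem_span_singleton_self _) Submodule.mem_top)
  · obtain ⟨a, rfl⟩ := Ideal.Quotient.mk_surjective a
    have h1 : σb (Ideal.Quotient.mk pp a) = Ideal.Quotient.mk pp a ^ p := by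
      show Ideal.Quotient.mk pp (σ a) = _
      rw [← map_pow, Ideal.Quotient.eq]
      have := frobenius_sub_pow_mem (p := p) a
      rwa [IV_eq_span_p, sup_idem] at this
    rw [h1]
    exact ⟨fun h => Ideal.IsPrime.mem_of_pow_mem (Ideal.IsMaximal.isPrime inferInstance) p h,
      fun h => m.pow_mem_of_mem h p hp.out.pos⟩
  · obtain ⟨x, rfl⟩ := Submodule.mkQ_surjective J z
    have : (m.comap (Ideal.Quotient.mk pp)).IsMaximal :=
      Ideal.comap_isMaximal_of_surjective _ Ideal.Quotient.mk_surjective
    set m' := m.comap (Ideal.Quotient.mk pp) with hm'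
    have hpm : pp ≤ m' := by
      intro a ha
      rw [hm', Ideal.mem_comap, Ideal.Quotient.eq_zero_iff_mem.2 ha]
      exact zero_mem _
    have hcs : Function.Surjective (WittVector.constantCoeff : WittVector p k →+* k) := fun c =>
      ⟨WittVector.teichmuller p c, WittVector.teichmuller_coeff_zero p c⟩
    let q : Ideal k := m'.map (WittVector.constantCoeff : WittVector p k →+* k)
    have hcomap : q.comap (WittVector.constantCoeff : WittVector p k →+* k) = m' := by
      rw [Ideal.comap_map_of_surjective _ hcs, ← RingHom.ker_eq_comap_bot, WittVector.ker_constantCoeff,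
        sup_eq_left.2 hpm]
    have hq : q.IsMaximal :=
      (Ideal.map_eq_top_or_isMaximal_of_surjective _ hcs ‹m'.IsMaximal›).resolve_left fun h => by
        have : m' = ⊤ := by rw [← hcomap, show q = ⊤ from h, Ideal.comap_top]
        exact ‹m'.IsMaximal›.ne_top this
    have hWI : WI (p := p) q ≤ m' := fun a ha => hcomap ▸ Ideal.mem_comap.2 (mem_WI.1 ha 0)
    have hm'le : m' ≤ pp ⊔ WI (p := p) q := by
      intro a ha
      rw [← sub_add_cancel a (WittVector.teichmuller p (a.coeff 0))]
      refine Submodule.add_mem_sup ?_ (mem_WI.2 fun j => ?_)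
      · rw [← IV_eq_span_p, mem_IV_iff]
        show WittVector.constantCoeff (a - WittVector.teichmuller p (a.coeff 0)) = 0
        rw [map_sub, sub_eq_zero]
        exact (teichmuller_coeff_zero p _).symm
      · cases j with
        | zero => rw [teichmuller_coeff_zero]; exact Ideal.mem_map_of_mem _ ha
        | succ j => rw [teichmuller_coeff_pos _ _ _ j.succ_pos]; exact zero_mem _
    have hlift : ∀ (y : M), J.mkQ y ∈ m • (⊤ : Submodule (WittVector p k ⧸ pp) (M ⧸ J)) →
        y ∈ m' • (⊤ : Submodule (WittVector p k) M) := by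
      intro y hy
      have : ∀ w ∈ m • (⊤ : Submodule (WittVector p k ⧸ pp) (M ⧸ J)),
          w ∈ (m' • (⊤ : Submodule (WittVector p k) M)).map J.mkQ := by
        intro w hw
        refine Submodule.smul_induction_on hw (fun c hc w _ => ?_) (fun _ _ => add_mem)
        obtain ⟨c, rfl⟩ := Ideal.Quotient.mk_surjective c
        obtain ⟨w, rfl⟩ := Submodule.mkQ_surjective J w
        exact ⟨c • w, Submodule.smul_mem_smul hc Submodule.mem_top, rfl⟩
      obtain ⟨w, hw, hwy⟩ := this _ hy
      rw [← add_sub_cancel w y]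
      exact add_mem hw (Submodule.smul_mono hpm le_rfl ((Submodule.Quotient.eq J).1 hwy.symm))
    have hFx := Submodule.smul_mono hm'le le_rfl (hlift (F x) hz)
    rw [Submodule.sup_smul] at hFx
    obtain ⟨a, ha, b, hb, rfl⟩ := Submodule.mem_sup.1
      (mem_of_semilin_mem F V hFV hVF hH hq.isPrime.isRadical (fun a ha => frobenius_symm_mem_WI hq.isPrime.isRadical ha) hFx)
    rw [map_add]
    refine Submodule.add_mem_sup ?_ ?_
    · clear hFx hlift hz
      induction ha using Submodule.span_induction with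
      | mem y hy => obtain ⟨z, rfl⟩ := hy; exact Submodule.subset_span ⟨J.mkQ z, rfl⟩
      | zero => rw [map_zero]; exact zero_mem _
      | add s t _ _ hs ht => rw [map_add]; exact add_mem hs ht
      | smul c s _ hs => rw [map_smul]; exact Submodule.smul_mem _ (Ideal.Quotient.mk pp c) hs
    · rw [← Submodule.sup_smul] at hb
      refine Submodule.smul_induction_on (Submodule.smul_mono (sup_le hpm hWI) le_rfl hb)
        (fun c hc w _ => ?_) (fun s t hs ht => by rw [map_add]; exact add_mem hs ht)
      rw [map_smul]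
      exact Submodule.smul_mem_smul (r := Ideal.Quotient.mk pp c) hc (Submodule.mem_top (x := J.mkQ w))

omit [CharP k p] [PerfectRing k p] hFV hVF hH in
theorem finite_projective_mod {A : Type w} [CommRing A] [Algebra (WittVector p k) A] [Module A M]
    [IsScalarTower (WittVector p k) A M] [Module.Finite A M] [Module.Projective A M]
    (π : A →ₐ[WittVector p k] WittVector p k ⧸ pp) (hs : Function.Surjective (algebraMap (WittVector p k) A)) :
    Module.Finite (WittVector p k ⧸ pp) (M ⧸ pp • (⊤ : Submodule (WittVector p k) M)) ∧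
      Module.Projective (WittVector p k ⧸ pp) (M ⧸ pp • (⊤ : Submodule (WittVector p k) M)) := by
  set J := pp • (⊤ : Submodule (WittVector p k) M)
  obtain ⟨r, φ, e, he⟩ := exists_dualBasis (A := A) (P := M)
  let ψ : Fin r → ((M ⧸ J) →ₗ[WittVector p k] WittVector p k ⧸ pp) := fun i =>
    J.liftQ (π.toLinearMap ∘ₗ (φ i).restrictScalars (WittVector p k)) (by
      intro x hx
      rw [LinearMap.mem_ker]
      refine Submodule.smul_induction_on hx (fun c hc y _ => ?_) (fun s t hs ht => by rw [map_add, hs, ht, add_zero])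
      rw [map_smul, Algebra.smul_def, Ideal.Quotient.algebraMap_eq, Ideal.Quotient.eq_zero_iff_mem.2 hc, zero_mul])
  let ψb : Fin r → ((M ⧸ J) →ₗ[WittVector p k ⧸ pp] WittVector p k ⧸ pp) := fun i =>
    { toFun := ψ i
      map_add' := map_add (ψ i)
      map_smul' := fun c z => by
        obtain ⟨c, rfl⟩ := Ideal.Quotient.mk_surjective c
        exact map_smul (ψ i) c z }
  have hexp : ∀ z, ∑ i, ψb i z • J.mkQ (e i) = z := by
    intro z
    obtain ⟨x, rfl⟩ := Submodule.mkQ_surjective J z
    conv_rhs => rw [← he x, map_sum]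
    refine Finset.sum_congr rfl fun i _ => ?_
    obtain ⟨a, ha⟩ := hs (φ i x)
    show π (φ i x) • J.mkQ (e i) = _
    rw [← ha, AlgHom.commutes, algebraMap_smul, algebraMap_smul, map_smul]
  constructor
  · refine ⟨(Submodule.fg_iff_exists_fin_generating_family).2 ⟨r, fun i => J.mkQ (e i), eq_top_iff.2 fun z _ => ?_⟩⟩
    rw [← hexp z]
    exact Submodule.sum_mem _ fun i _ => Submodule.smul_mem _ _ (Submodule.subset_span (Set.mem_range_self i))
  · refine Module.Projective.of_split (M := Fin r → WittVector p k ⧸ pp) (LinearMap.pi ψb)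
      (Fintype.linearCombination (WittVector p k ⧸ pp) fun i => J.mkQ (e i)) (LinearMap.ext fun z => ?_)
    simpa [Fintype.linearCombination_apply] using hexp z

end Groth.Misc5Disp
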