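import Groth.Agent.Misc5Disp.Core
import Mathlib.LinearAlgebra.ExteriorPower.Basis

set_option autoImplicit false

universe u v w z

namespace Groth.Misc5Disp

open WittVector W4c1extbt610

section Alg

variable {A : Type u} [CommRing A] {M : Type v} [AddCommGroup M] [Module A M]
  {N : Type w} [AddCommGroup N] [Module A N] {ι : Type z} [Fintype ι] [DecidableEq ι]

/-- expansion of an alternating map on tuples `m i + c i • t` -/
theorem alt_expand (f : M [⋀^ι]→ₗ[A] N) (m : ι → M) (c : ι → A) (t : M) :
    f (fun i => m i + c i • t) = f m + ∑ i, c i • f (Function.update m i t) := by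
  have h2 : ∀ (s : Finset ι) j, j ∉ s →
      f (Function.update (s.piecewise (fun i => m i + c i • t) m) j t) = f (Function.update m j t) := by
    intro s
    induction s using Finset.induction with
    | empty => intro j _; rw [Finset.piecewise_empty]
    | insert k s hk ih =>
      intro j hj
      rw [Finset.mem_insert, not_or] at hj
      rw [Finset.piecewise_insert, Function.update_comm (Ne.symm hj.1), f.map_update_add, f.map_update_smul]
      have h0 : f (Function.update (Function.update (s.piecewise (fun i => m i + c i • t) m) j t) k t) = 0 :=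
        f.map_eq_zero_of_eq _ (i := k) (j := j) (by simp [hj.1]) (Ne.symm hj.1)
      rw [h0, smul_zero, add_zero]
      convert ih j hj.2 using 2
      refine Function.update_eq_self_iff.2 ?_
      simp [Function.update_of_ne (Ne.symm hj.1), hk]
  have h1 : ∀ s : Finset ι, f (s.piecewise (fun i => m i + c i • t) m) =
      f m + ∑ i ∈ s, c i • f (Function.update m i t) := by
    intro s
    induction s using Finset.induction with
    | empty => simp
    | insert k s hk ih =>
      rw [Finset.piecewise_insert, f.map_update_add, f.map_update_smul, h2 s k hk, Finset.sum_insert hk]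
      have : Function.update (s.piecewise (fun i => m i + c i • t) m) k (m k) = s.piecewise (fun i => m i + c i • t) m :=
        Function.update_eq_self_iff.2 (by simp [hk])
      rw [this, ih]
      abel
  simpa using h1 Finset.univ

omit [Fintype ι] [DecidableEq ι] in
theorem exteriorPower_projective [Module.Finite A M] [Module.Projective A M] (r : ℕ) :
    Module.Projective A (⋀[A]^r M) := by
  obtain ⟨n, f, hf⟩ := Module.Finite.exists_fin' A M
  obtain ⟨s, hs⟩ := Module.projective_lifting_property f LinearMap.id hf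
  exact Module.Projective.of_split (exteriorPower.map r s) (exteriorPower.map r f)
    (by rw [← exteriorPower.map_comp, hs, exteriorPower.map_id])

/-- `N` with scalars twisted by `σ` -/
@[nolint unusedArguments]
def Tw (_σ : A →+* A) (N : Type w) : Type w := N

instance (σ : A →+* A) : AddCommGroup (Tw σ N) := inferInstanceAs (AddCommGroup N)

instance (σ : A →+* A) : Module A (Tw σ N) := Module.compHom N σ

/-- identity -/
def toTw (σ : A →+* A) (x : N) : Tw σ N := x

/-- identity -/
def ofTw {σ : A →+* A} (x : Tw σ N) : N := x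

theorem semi_update {κ : Type*} [DecidableEq κ] {σ : A →+* A} (Φ : M →ₛₗ[σ] M) (x : κ → M) (i : κ) (y : M) :
    (fun j => Φ (Function.update x i y j)) = Function.update (fun j => Φ (x j)) i (Φ y) :=
  funext fun j => Function.apply_update (fun _ => Φ) x i y j

/-- the alternating map behind `extSemi` -/
noncomputable def extAlt {σ : A →+* A} (Φ : M →ₛₗ[σ] M) (r : ℕ) : M [⋀^Fin r]→ₗ[A] Tw σ (⋀[A]^r M) where
  toFun x := toTw σ (exteriorPower.ιMulti A r fun i => Φ (x i))
  map_update_add' := by
    intro _ x i a b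
    simp only [semi_update, map_add]
    exact (exteriorPower.ιMulti A r).map_update_add _ i _ _
  map_update_smul' := by
    intro _ x i a b
    simp only [semi_update, map_smulₛₗ]
    exact (exteriorPower.ιMulti A r).map_update_smul _ i _ _
  map_eq_zero_of_eq' x i j h hij :=
    (exteriorPower.ιMulti A r).map_eq_zero_of_eq _ (show Φ (x i) = Φ (x j) by rw [h]) hij

theorem extAlt_apply {σ : A →+* A} (Φ : M →ₛₗ[σ] M) (r : ℕ) (x : Fin r → M) :
    extAlt Φ r x = toTw σ (exteriorPower.ιMulti A r fun i => Φ (x i)) := rfl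

/-- the exterior power of a semilinear map -/
noncomputable def extSemi {σ : A →+* A} (Φ : M →ₛₗ[σ] M) (r : ℕ) : ⋀[A]^r M →ₛₗ[σ] ⋀[A]^r M where
  toFun z := ofTw (exteriorPower.alternatingMapLinearEquiv (extAlt Φ r) z)
  map_add' a b := map_add (exteriorPower.alternatingMapLinearEquiv (extAlt Φ r)) a b
  map_smul' a b := map_smul (exteriorPower.alternatingMapLinearEquiv (extAlt Φ r)) a b

@[simp] theorem extSemi_apply {σ : A →+* A} (Φ : M →ₛₗ[σ] M) (r : ℕ) (x : Fin r → M) :
    extSemi Φ r (exteriorPower.ιMulti A r x) = exteriorPower.ιMulti A r fun i => Φ (x i) := by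
  have h := exteriorPower.alternatingMapLinearEquiv_apply_ιMulti (extAlt Φ r) x
  rw [extAlt_apply] at h
  exact congrArg ofTw h

theorem span_extSemi {σ : A →+* A} {Φ : M →ₛₗ[σ] M} (hΦ : Submodule.span A (Set.range Φ) = ⊤) (r : ℕ) :
    Submodule.span A (Set.range (extSemi Φ r)) = ⊤ := by
  rw [← top_le_iff, ← exteriorPower.ιMulti_span_of_span A r M hΦ, Submodule.span_le]
  rintro _ ⟨a, ha, rfl⟩
  choose x hx using fun i => ha ⟨i, rfl⟩
  refine Submodule.subset_span ⟨exteriorPower.ιMulti A r x, ?_⟩
  rw [extSemi_apply]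
  congr 1
  funext i
  exact hx i

theorem map_ιMulti (g : M →ₗ[A] M) (r : ℕ) (x : Fin r → M) :
    exteriorPower.map r g (exteriorPower.ιMulti A r x) = exteriorPower.ιMulti A r fun i => g (x i) :=
  exteriorPower.map_apply_ιMulti g x

theorem map_idem {g : M →ₗ[A] M} (hg : ∀ x, g (g x) = g x) (r : ℕ) (z : ⋀[A]^r M) :
    exteriorPower.map r g (exteriorPower.map r g z) = exteriorPower.map r g z := by
  rw [← LinearMap.comp_apply, ← exteriorPower.map_comp]
  congr 2
  exact LinearMap.ext hg

end Alg

variable {p : ℕ} [hp : Fact p.Prime] {R : Type u} [CommRing R]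
variable {P : Type v} [AddCommGroup P] [Module (WittVector p R) P]

local notation "fr" => WittVector.frobenius
local notation "ι∧" => exteriorPower.ιMulti (WittVector p R)

theorem qOf_eq_sup {π : P →ₗ[WittVector p R] P} (hπ : ∀ x, π (π x) = π x) :
    qOf π = LinearMap.range π ⊔ IV p R • LinearMap.ker π := by
  refine le_antisymm (fun x hx => ?_) (sup_le ?_ ?_)
  · refine Submodule.mem_sup.2 ⟨π x, ⟨x, rfl⟩, x - π x, ?_, add_sub_cancel _ _⟩
    have h1 : (LinearMap.id - π : P →ₗ[WittVector p R] P) (x - π x) = x - π x := by simp [hπ]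
    rw [← h1]
    have h2 := Submodule.mem_map_of_mem (f := (LinearMap.id - π : P →ₗ[WittVector p R] P)) (mem_qOf π |>.1 hx)
    rw [Submodule.map_smul'', Submodule.map_top] at h2
    exact Submodule.smul_mono le_rfl (by rintro _ ⟨z, rfl⟩; simp [LinearMap.mem_ker, hπ]) h2
  · rintro _ ⟨y, rfl⟩
    simp [mem_qOf, hπ]
  · exact le_trans (Submodule.smul_mono le_rfl le_top) (IVP_le_qOf π)

theorem isExtPow_unique {D : Display3n p R P} {r : ℕ} {E E' : Display3n p R (⋀[WittVector p R]^r P)}
    (hE : IsExtPow D r E) (hE' : IsExtPow D r E') : E' = E := by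
  refine display_ext (hE'.1.trans hE.1.symm) fun x h h' => ?_
  have key : ∀ z ∈ Submodule.span (WittVector p R) (Set.range fun q : Fin r → D.Q => ι∧ r fun i => (q i : P)),
      ∀ (h : z ∈ E'.Q) (h' : z ∈ E.Q), E'.Vinv ⟨z, h⟩ = E.Vinv ⟨z, h'⟩ := by
    intro z hz
    induction hz using Submodule.span_induction with
    | mem y hy => obtain ⟨q, rfl⟩ := hy; intro h h'; rw [hE'.2 q h, hE.2 q h']
    | zero => intro h h'; exact (map_zero E'.Vinv).trans (map_zero E.Vinv).symm
    | add a b ha hb iha ihb =>
      intro h h'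
      have a1 : a ∈ E'.Q := hE'.1.symm ▸ ha
      have b1 : b ∈ E'.Q := hE'.1.symm ▸ hb
      have a2 : a ∈ E.Q := hE.1.symm ▸ ha
      have b2 : b ∈ E.Q := hE.1.symm ▸ hb
      exact ((map_add E'.Vinv ⟨a, a1⟩ ⟨b, b1⟩).trans (congrArg₂ (· + ·) (iha a1 a2) (ihb b1 b2))).trans
        (map_add E.Vinv ⟨a, a2⟩ ⟨b, b2⟩).symm
    | smul c a ha iha =>
      intro h h'
      have a1 : a ∈ E'.Q := hE'.1.symm ▸ ha
      have a2 : a ∈ E.Q := hE.1.symm ▸ ha
      exact ((map_smulₛₗ E'.Vinv c ⟨a, a1⟩).trans (congrArg _ (iha a1 a2))).trans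
        (map_smulₛₗ E.Vinv c ⟨a, a2⟩).symm
  exact key x (hE'.1 ▸ h) h h'

variable [Module.Finite (WittVector p R) P] [Module.Projective (WittVector p R) P]
variable (π : P →ₗ[WittVector p R] P) (hπ : ∀ x, π (π x) = π x)
  (Φ : P →ₛₗ[(fr : WittVector p R →+* WittVector p R)] P) (hΦ : Submodule.span (WittVector p R) (Set.range Φ) = ⊤)

/-- the exterior power of `mk π Φ` -/
noncomputable def extMk (r : ℕ) : Display3n p R (⋀[WittVector p R]^r P) :=
  haveI := exteriorPower_projective (A := WittVector p R) (M := P) r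
  mk (exteriorPower.map r π) (map_idem hπ r) (extSemi Φ r) (span_extSemi hΦ r)

theorem extMk_isExtPow (t₀ : P) (c : P →ₗ[WittVector p R] WittVector p R) (hc : ∀ x, x - π x = c x • t₀)
    (hcπ : ∀ x, c (π x) = 0) (r : ℕ) : IsExtPow (mk π hπ Φ hΦ) r (extMk π hπ Φ hΦ r) := by
  haveI := exteriorPower_projective (A := WittVector p R) (M := P) r
  have ht₀ : ∀ x, π (c x • t₀) = 0 := fun x => by rw [← hc, map_sub, hπ, sub_self]
  have hexp : ∀ x : Fin r → P, ι∧ r x = ι∧ r (fun i => π (x i)) +
      ∑ i, c (x i) • ι∧ r (Function.update (fun i => π (x i)) i t₀) := fun x => by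
    rw [← alt_expand]
    congr 1
    funext i
    rw [← hc, add_sub_cancel]
  have hcQ : ∀ y ∈ qOf π, c y ∈ IV p R := by
    intro y hy
    have h := map_mem_smul_top c (mem_qOf π |>.1 hy)
    rw [map_sub, hcπ, sub_zero, smul_eq_mul, Ideal.mul_top] at h
    exact h
  have hπQ : ∀ y, π y ∈ qOf π := fun y => by rw [mem_qOf, hπ, sub_self]; exact zero_mem _
  refine ⟨le_antisymm ?_ (Submodule.span_le.2 ?_), fun q hq => ?_⟩
  · show qOf (exteriorPower.map r π) ≤ _
    intro z hz
    set S := Submodule.span (WittVector p R)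
      (Set.range fun q : Fin r → qOf π => ι∧ r fun i => (q i : P)) with hS
    have h1 : ∀ z, exteriorPower.map r π z ∈ S := by
      intro z
      have hz : z ∈ Submodule.span (WittVector p R) (Set.range (ι∧ r : _ → ⋀[WittVector p R]^r P)) := by
        rw [exteriorPower.ιMulti_span]; trivial
      induction hz using Submodule.span_induction with
      | mem y hy =>
        obtain ⟨x, rfl⟩ := hy
        rw [map_ιMulti]
        exact Submodule.subset_span ⟨fun i => ⟨π (x i), hπQ _⟩, rfl⟩
      | zero => rw [map_zero]; exact zero_mem _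
      | add a b _ _ ha hb => rw [map_add]; exact add_mem ha hb
      | smul a b _ hb => rw [map_smul]; exact Submodule.smul_mem _ a hb
    have h2 : IVP p R (⋀[WittVector p R]^r P) ≤ S := by
      refine Submodule.smul_le.2 fun a ha z _ => ?_
      have hz : z ∈ Submodule.span (WittVector p R) (Set.range (ι∧ r : _ → ⋀[WittVector p R]^r P)) := by
        rw [exteriorPower.ιMulti_span]; trivial
      induction hz using Submodule.span_induction with
      | mem y hy =>
        obtain ⟨x, rfl⟩ := hy
        rw [hexp, smul_add, Finset.smul_sum]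
        refine add_mem (Submodule.smul_mem _ a (Submodule.subset_span ⟨fun i => ⟨π (x i), hπQ _⟩, rfl⟩))
          (Submodule.sum_mem _ fun i _ => ?_)
        rw [smul_comm, ← AlternatingMap.map_update_smul]
        refine Submodule.smul_mem _ _ (Submodule.subset_span ⟨fun j => ⟨Function.update (fun i => π (x i)) i (a • t₀) j, ?_⟩, rfl⟩)
        rcases eq_or_ne j i with rfl | h
        · rw [Function.update_self]; exact IVP_le_qOf π (Submodule.smul_mem_smul ha Submodule.mem_top)
        · rw [Function.update_of_ne h]; exact hπQ _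
      | zero => rw [smul_zero]; exact zero_mem _
      | add u v _ _ hu hv => rw [smul_add]; exact add_mem (hu trivial) (hv trivial)
      | smul b u _ hu => rw [smul_comm]; exact Submodule.smul_mem _ b (hu trivial)
    have := add_mem (h1 z) (h2 (mem_qOf _ |>.1 hz))
    rwa [add_sub_cancel] at this
  · rintro _ ⟨q, rfl⟩
    show _ ∈ qOf (exteriorPower.map r π)
    dsimp only
    rw [mem_qOf, map_ιMulti, hexp fun i => (q i : P), add_sub_cancel_left]
    exact Submodule.sum_mem _ fun i _ => Submodule.smul_mem_smul (hcQ _ (q i).2) Submodule.mem_top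
  · choose b hb using fun i => exists_V_of_mem_IV (hcQ _ (q i).2)
    have hV : ∀ i, (mk π hπ Φ hΦ).Vinv (q i) = Φ (π (q i : P)) + b i • Φ t₀ := fun i => by
      refine (mk_Vinv_apply π hπ Φ hΦ (q i : P) (q i).2).trans (congrArg _ ?_)
      have e : (⟨(q i : P) - π (q i), (q i).2⟩ : IVP p R P) = ⟨verschiebung (b i) • t₀, V_smul_mem _ _⟩ :=
        Subtype.ext (by simp only [hb, hc])
      rw [e, gMap_V_smul]
    simp only [hV]
    rw [alt_expand]
    refine (mk_Vinv_apply _ _ _ _ _ hq).trans ?_
    refine congrArg₂ (· + ·) (by rw [map_ιMulti, extSemi_apply]) ?_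
    have hmem : ∀ i, verschiebung (b i) • ι∧ r (Function.update (fun i => π (q i : P)) i t₀) ∈
        IVP p R (⋀[WittVector p R]^r P) := fun i => V_smul_mem _ _
    have e : (⟨ι∧ r (fun i => (q i : P)) - exteriorPower.map r π (ι∧ r (fun i => (q i : P))), hq⟩ :
        IVP p R (⋀[WittVector p R]^r P)) = ∑ i, ⟨_, hmem i⟩ := by
      refine Subtype.ext ?_
      rw [Submodule.coe_sum]
      simp only [map_ιMulti]
      simp only [hb]
      rw [hexp fun i => (q i : P), add_sub_cancel_left]
    rw [e, map_sum]
    refine Finset.sum_congr rfl fun i _ => ?_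
    rw [gMap_V_smul, extSemi_apply]
    congr 2
    funext j
    exact Function.apply_update (fun _ => Φ) _ i t₀ j

omit [Module.Finite (WittVector p R) P] [Module.Projective (WittVector p R) P] in
theorem exists_extMk (D : Display3n p R P) (L T : Submodule (WittVector p R) P) (hLT : IsCompl L T)
    (hQ : D.Q = L ⊔ IV p R • T) (e : T ≃ₗ[WittVector p R] WittVector p R) :
    haveI := D.finite
    haveI := D.projective
    ∃ (π : P →ₗ[WittVector p R] P) (hπ : ∀ x, π (π x) = π x)
      (Φ : P →ₛₗ[(fr : WittVector p R →+* WittVector p R)] P)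
      (hΦ : Submodule.span (WittVector p R) (Set.range Φ) = ⊤),
      LinearMap.range π = L ∧ LinearMap.ker π = T ∧
        ∀ r, IsExtPow D r (extMk π hπ Φ hΦ r) := by
  haveI := D.finite
  haveI := D.projective
  obtain ⟨π, hπ, Φ, hΦ, hD, hL, hT⟩ := exists_eq_mk D L T hLT hQ
  refine ⟨π, hπ, Φ, hΦ, hL, hT, fun r => ?_⟩
  rw [hD]
  have hmem : ∀ x, (LinearMap.id - π : P →ₗ[WittVector p R] P) x ∈ T := fun x => hT ▸ (by simp [LinearMap.mem_ker, hπ])
  refine extMk_isExtPow π hπ Φ hΦ ((e.symm 1 : T) : P)
    (e.toLinearMap ∘ₗ LinearMap.codRestrict T (LinearMap.id - π : P →ₗ[WittVector p R] P) hmem) (fun x => ?_) (fun x => ?_) r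
  · have h2 : (e (⟨_, hmem x⟩ : T) • e.symm 1 : T) = ⟨_, hmem x⟩ := by
      rw [← map_smul, smul_eq_mul, mul_one, LinearEquiv.symm_apply_apply]
    exact (congrArg Subtype.val h2).symm
  · have h0 : LinearMap.codRestrict T (LinearMap.id - π : P →ₗ[WittVector p R] P) hmem (π x) = 0 :=
      Subtype.ext (by simp [hπ])
    rw [LinearMap.comp_apply, h0, map_zero]

end Groth.Misc5Disp
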