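import Groth.Agent.Misc5Disp.VSharp
import Mathlib.RingTheory.Ideal.Maps

set_option autoImplicit false

universe u v w w'

namespace Groth.Misc5Disp

open WittVector W4c1extbt610 Dieu

section Twist

variable {A : Type u} {B : Type v} {C : Type w'} [CommRing A] [CommRing B] [CommRing C]
  {P : Type w} [AddCommGroup P] [Module A P]

/-- `b ⊗ x ↦ h b ⊗ x` into a re-indexed scalar extension -/
noncomputable def twist (g : A →+* B) (h : B →+* C) {g' : A →+* C} (e : h.comp g = g') :
    BC g P →ₛₗ[h] BC g' P where
  toFun z := BC.castHom e (BC.push g h z)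
  map_add' x y := by rw [map_add, map_add]
  map_smul' c x := by rw [map_smulₛₗ, map_smul]

@[simp] theorem twist_tmul (g : A →+* B) (h : B →+* C) {g' : A →+* C} (e : h.comp g = g') (b : B) (x : P) :
    twist g h e (BC.tmul g b x) = BC.tmul g' (h b) x := by
  show BC.castHom e (BC.push g h (BC.tmul g b x)) = _
  rw [BC.push_tmul, BC.castHom_tmul]

end Twist

variable {p : ℕ} [hp : Fact p.Prime] {R : Type u} [CommRing R]
variable {P : Type v} [AddCommGroup P] [Module (WittVector p R) P]

/-- abbreviation for the iterated Frobenius -/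
noncomputable abbrev frN (p : ℕ) [Fact p.Prime] (R : Type u) [CommRing R] (n : ℕ) :
    WittVector p R →+* WittVector p R :=
  (WittVector.frobenius : WittVector p R →+* WittVector p R) ^ n

variable (Vs : P →ₗ[WittVector p R] BC (WittVector.frobenius : WittVector p R →+* WittVector p R) P)

/-- one step of the recursion of `vSharpPow` -/
noncomputable def stepMap (n : ℕ) :
    BC (WittVector.frobenius : WittVector p R →+* WittVector p R) P →ₗ[WittVector p R] BC (frN p R (n + 2)) P :=
  BC.lift _ ((twist (frN p R (n + 1)) WittVector.frobenius (g' := frN p R (n + 2)) (comp_pow_eq_pow_succ _ _)).comp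
    (vSharpPow Vs n))

@[simp] theorem stepMap_tmul (n : ℕ) (w : WittVector p R) (y : P) :
    stepMap Vs n (BC.tmul _ w y) =
      w • twist (frN p R (n + 1)) WittVector.frobenius (g' := frN p R (n + 2)) (comp_pow_eq_pow_succ _ _)
        (vSharpPow Vs n y) := by
  rw [stepMap, BC.lift_tmul]; rfl

theorem vSharpPow_succ' (n : ℕ) (x : P) : vSharpPow Vs (n + 1) x = stepMap Vs n (Vs x) := by
  rw [vSharpPow_succ_apply]
  generalize Vs x = z
  induction z using BC.induction_on _ with
  | zero => simp
  | tmul w y =>
    rw [BC.map_tmul, BC.lift_tmul, map_smul, stepMap_tmul]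
    rfl
  | add a b ha hb => simp only [map_add, ha, hb]

theorem frN_comp (m n : ℕ) : (frN p R m).comp (frN p R n) = frN p R (m + n) := (pow_add _ m n).symm

theorem frN_mem {J : Ideal (WittVector p R)} (h : ∀ a ∈ J, WittVector.frobenius a ∈ J) (n : ℕ) :
    ∀ a ∈ J, frN p R n a ∈ J := by
  induction n with
  | zero => intro a ha; simpa [frN] using ha
  | succ n ih =>
    intro a ha
    have : frN p R (n + 1) a = WittVector.frobenius (frN p R n a) := by rw [frN, pow_succ']; rfl
    rw [this]
    exact h _ (ih a ha)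

/-- transport of `vSharpPow b` along `a + 1` further iterates -/
noncomputable def composeMap (a b : ℕ) : BC (frN p R (a + 1)) P →ₗ[WittVector p R] BC (frN p R (b + a + 1 + 1)) P :=
  BC.lift _ ((twist (frN p R (b + 1)) (frN p R (a + 1)) (g' := frN p R (b + a + 1 + 1))
    ((frN_comp (a + 1) (b + 1)).trans (congrArg (frN p R) (by omega)))).comp (vSharpPow Vs b))

@[simp] theorem composeMap_tmul (a b : ℕ) (w : WittVector p R) (y : P) :
    composeMap Vs a b (BC.tmul _ w y) = w • twist (frN p R (b + 1)) (frN p R (a + 1)) (g' := frN p R (b + a + 1 + 1))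
      ((frN_comp (a + 1) (b + 1)).trans (congrArg (frN p R) (by omega))) (vSharpPow Vs b y) := by
  rw [composeMap, BC.lift_tmul]; rfl

theorem vSharpPow_compose (a b : ℕ) (x : P) :
    vSharpPow Vs (b + a + 1) x = composeMap Vs a b (vSharpPow Vs a x) := by
  induction a generalizing x with
  | zero =>
    show vSharpPow Vs (b + 1) x = _
    rw [vSharpPow_succ', vSharpPow_zero_apply]
    generalize Vs x = z
    induction z using BC.induction_on _ with
    | zero => simp
    | tmul w y =>
      rw [stepMap_tmul, BC.castHom_tmul, composeMap_tmul]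
      congr 1
    | add s t hs ht => simp only [map_add, hs, ht]
  | succ a ih =>
    show vSharpPow Vs (b + a + 1 + 1) x = _
    rw [vSharpPow_succ', vSharpPow_succ']
    generalize Vs x = z
    induction z using BC.induction_on _ with
    | zero => simp
    | tmul w y =>
      rw [stepMap_tmul, stepMap_tmul, map_smul, ih]
      congr 1
      generalize vSharpPow Vs a y = u
      induction u using BC.induction_on _ with
      | zero => simp
      | tmul c t =>
        rw [composeMap_tmul, map_smulₛₗ, twist_tmul, composeMap_tmul]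
        congr 1
        generalize vSharpPow Vs b t = v
        induction v using BC.induction_on _ with
        | zero => simp
        | tmul d s =>
          rw [twist_tmul, twist_tmul, twist_tmul]
          congr 1
          exact (RingHom.congr_fun (comp_pow_eq_pow_succ (WittVector.frobenius : WittVector p R →+* WittVector p R) (a + 1)) d :)
        | add s t hs ht => simp only [map_add, hs, ht]
      | add s t hs ht => simp only [map_add, hs, ht]
    | add s t hs ht => simp only [map_add, hs, ht]

theorem vSharpPow_mem_mul {K J : Ideal (WittVector p R)} (hJσ : ∀ a ∈ J, WittVector.frobenius a ∈ J) {a b : ℕ}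
    (ha : ∀ x, vSharpPow Vs a x ∈ K • (⊤ : Submodule (WittVector p R) _))
    (hb : ∀ x, vSharpPow Vs b x ∈ J • (⊤ : Submodule (WittVector p R) _)) (x : P) :
    vSharpPow Vs (b + a + 1) x ∈ (K * J) • (⊤ : Submodule (WittVector p R) _) := by
  rw [vSharpPow_compose]
  refine Submodule.smul_induction_on (ha x) (fun k hk z hz => ?_) (fun u v hu hv => by rw [map_add]; exact add_mem hu hv)
  clear hz
  rw [map_smul, Submodule.mul_smul]
  refine Submodule.smul_mem_smul hk ?_
  induction z using BC.induction_on _ with
  | zero => rw [map_zero]; exact zero_mem _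
  | tmul w y =>
    rw [composeMap_tmul]
    exact Submodule.smul_mem _ _ (semilinear_mem_smul_top _ (frN_mem hJσ _) (hb y))
  | add u v hu hv => rw [map_add]; exact add_mem hu hv

/-- `IV + pW` -/
noncomputable abbrev nilIdeal (p : ℕ) [Fact p.Prime] (R : Type u) [CommRing R] : Ideal (WittVector p R) :=
  IV p R ⊔ Ideal.span {(p : WittVector p R)}

theorem frobenius_mem_nilIdeal {a : WittVector p R} (ha : a ∈ nilIdeal p R) :
    WittVector.frobenius a ∈ nilIdeal p R := by
  obtain ⟨b, hb, c, hc, rfl⟩ := Submodule.mem_sup.1 ha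
  obtain ⟨d, rfl⟩ := Ideal.mem_span_singleton'.1 hc
  rw [map_add, map_mul, map_natCast]
  exact Submodule.mem_sup_right (add_mem (frobenius_mem_span_p hb)
    (Ideal.mul_mem_left _ _ (Ideal.mem_span_singleton_self _)))

theorem exists_vSharpPow_mem_pow (h : IsVNilpotent Vs) (k : ℕ) :
    ∃ N, ∀ x, vSharpPow Vs N x ∈ (nilIdeal p R) ^ (k + 1) • (⊤ : Submodule (WittVector p R) _) := by
  obtain ⟨n, hn⟩ := h
  induction k with
  | zero => exact ⟨n, by simpa using hn⟩
  | succ k ih =>
    obtain ⟨N, hN⟩ := ih
    refine ⟨N + n + 1, fun x => ?_⟩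
    rw [pow_succ' (nilIdeal p R) (k + 1)]
    refine vSharpPow_mem_mul Vs (fun a ha => ?_) hn hN x
    have : (nilIdeal p R ^ (k + 1)).map (WittVector.frobenius : WittVector p R →+* WittVector p R) ≤
        nilIdeal p R ^ (k + 1) := by
      rw [Ideal.map_pow]
      exact Ideal.pow_right_mono (Ideal.map_le_of_le_comap (fun b hb => Ideal.mem_comap.2 (frobenius_mem_nilIdeal hb))) _
    exact this (Ideal.mem_map_of_mem _ ha)

theorem expand_aux {T : Type*} [CommRing T] (A B C c d q : T) (h : A * B = q * C) :
    q * (C + (A * d + c * (B + d * q))) = (A + c * q) * (B + d * q) := by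
  linear_combination -h

theorem nilIdeal_pow_le (k : ℕ) : (nilIdeal p R) ^ (k + 1) ≤ Ideal.span {(p : WittVector p R) ^ k} * nilIdeal p R := by
  induction k with
  | zero => simp
  | succ k ih =>
    rw [pow_succ]
    refine (mul_le_mul' ih le_rfl).trans ?_
    rw [mul_assoc, pow_succ (p : WittVector p R) k, ← Ideal.span_singleton_mul_span_singleton, mul_assoc]
    refine mul_le_mul' le_rfl ?_
    rw [Ideal.mul_le]
    intro a ha b hb
    obtain ⟨a₁, ha₁, a₂, ha₂, rfl⟩ := Submodule.mem_sup.1 ha
    obtain ⟨b₁, hb₁, b₂, hb₂, rfl⟩ := Submodule.mem_sup.1 hb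
    obtain ⟨u, rfl⟩ := exists_V_of_mem_IV ha₁
    obtain ⟨w, rfl⟩ := exists_V_of_mem_IV hb₁
    obtain ⟨c, rfl⟩ := Ideal.mem_span_singleton'.1 ha₂
    obtain ⟨d, rfl⟩ := Ideal.mem_span_singleton'.1 hb₂
    refine Ideal.mem_span_singleton_mul.2 ⟨verschiebung (u * w) + (verschiebung u * d + c * (verschiebung w + d * (p : WittVector p R))), ?_, ?_⟩
    · refine add_mem (Submodule.mem_sup_left (verschiebung_mem_IV p R _)) (add_mem ?_ ?_)
      · exact Submodule.mem_sup_left (Ideal.mul_mem_right _ _ (verschiebung_mem_IV p R _))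
      · refine Ideal.mul_mem_left _ _ (add_mem (Submodule.mem_sup_left (verschiebung_mem_IV p R _)) ?_)
        exact Submodule.mem_sup_right (Ideal.mul_mem_left _ _ (Ideal.mem_span_singleton_self _))
    · exact expand_aux _ _ _ _ _ _ (V_mul_V u w)

theorem exists_nilIdeal_pow_le_ker (hpn : IsNilpotent (p : R)) (n : ℕ) :
    ∃ k, (nilIdeal p R) ^ (k + 1) ≤ RingHom.ker (WittVector.truncate (p := p) (R := R) n) := by
  obtain ⟨m, hm⟩ := hpn
  refine ⟨m * n, fun x hx => ?_⟩
  obtain ⟨z, -, rfl⟩ := Ideal.mem_span_singleton_mul.1 (nilIdeal_pow_le (m * n) hx)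
  apply Ideal.mul_mem_right
  obtain ⟨y, hy⟩ := exists_natCast_pow_eq_V_iterate (p := p) hm n
  rw [hy, WittVector.mem_ker_truncate]
  intro i hi
  obtain ⟨d, rfl⟩ := Nat.exists_eq_add_of_lt hi
  clear hy hm hi hx
  induction i with
  | zero => rw [Nat.zero_add, Function.iterate_succ_apply', verschiebung_coeff_zero]
  | succ i ih => rw [show i + 1 + d + 1 = (i + d + 1) + 1 by ring, Function.iterate_succ_apply', verschiebung_coeff_succ]; exact ih

end Groth.Misc5Disp
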