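import Groth.Agent.Misc5Disp.Tensor
import Mathlib.RingTheory.AdicCompletion.Basic
import Mathlib.LinearAlgebra.Projection
import Mathlib.Tactic.NoncommRing

set_option autoImplicit false

universe u v

namespace Groth.Misc5Disp

variable {A : Type u} [CommRing A] {I : Ideal A} {P : Type v} [AddCommGroup P] [Module A P]
  [Module.Finite A P] [Module.Projective A P]

/-- lifting of a decomposition modulo an adically complete ideal -/
theorem exists_lift_decomp [IsAdicComplete I A] (Q C : Submodule A P) (h1 : Q ⊔ C = ⊤)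
    (h2 : Q ⊓ C = I • (⊤ : Submodule A P)) :
    ∃ L T : Submodule A P, IsCompl L T ∧ Q = L ⊔ I • T := by
  set J : Submodule A P := I • ⊤ with hJ
  have hJQ : J ≤ Q := h2 ▸ inf_le_left
  have hcompl : IsCompl (Q.map J.mkQ) (C.map J.mkQ) := by
    refine IsCompl.of_eq ?_ ?_
    · refine eq_bot_iff.2 ?_
      rintro x ⟨⟨q, hq, rfl⟩, c, hc, hcq⟩
      have hd : c - q ∈ J := (Submodule.Quotient.eq J).1 hcq
      have hcQ : c ∈ Q := by
        have := Q.add_mem (hJQ hd) hq
        rwa [sub_add_cancel] at this
      have hcJ : c ∈ J := h2 ▸ Submodule.mem_inf.2 ⟨hcQ, hc⟩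
      rw [Submodule.mem_bot, ← hcq]
      exact (Submodule.Quotient.mk_eq_zero J).2 hcJ
    · rw [← Submodule.map_sup, h1, Submodule.map_top, Submodule.range_mkQ]
  let eb := Submodule.projection _ _ hcompl ∘ₗ J.mkQ
  obtain ⟨e₀, he₀⟩ := Module.projective_lifting_property J.mkQ eb (Submodule.mkQ_surjective J)
  have hid : ∀ x, e₀ (e₀ x) - e₀ x ∈ J := by
    intro x
    rw [← Submodule.Quotient.eq]
    show J.mkQ _ = J.mkQ _
    rw [← LinearMap.comp_apply J.mkQ e₀, he₀]
    show Submodule.projection _ _ hcompl (J.mkQ (e₀ x)) = J.mkQ (e₀ x)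
    rw [← LinearMap.comp_apply J.mkQ e₀, he₀]
    have hy : eb x ∈ Q.map J.mkQ :=
      (Submodule.range_projection hcompl).le (LinearMap.mem_range_self _ (J.mkQ x))
    exact Submodule.projection_apply_left hcompl ⟨_, hy⟩
  let e : ℕ → Module.End A P := fun k => (fun f : Module.End A P => 3 * f ^ 2 - 2 * f ^ 3)^[k] e₀
  have herr : ∀ k, ∀ x, (e k ^ 2 - e k) x ∈ I ^ (k + 1) • (⊤ : Submodule A P) := by
    intro k
    induction k with
    | zero => intro x; simpa [e, pow_two, Module.End.mul_apply] using hid x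
    | succ k ih =>
      intro x
      have hs : e (k + 1) ^ 2 - e (k + 1) = (e k ^ 2 - e k) * (e k ^ 2 - e k) * (4 * (e k ^ 2 - e k) - 3) := by
        simp only [e, Function.iterate_succ_apply']
        noncomm_ring
      rw [hs, Module.End.mul_apply, Module.End.mul_apply]
      generalize ((4 * (e k ^ 2 - e k) - 3 : Module.End A P) x) = y
      have hy := ih y
      have : (e k ^ 2 - e k) ((e k ^ 2 - e k) y) ∈ (I ^ (k + 1) * I ^ (k + 1)) • (⊤ : Submodule A P) := by
        rw [Submodule.mul_smul]
        refine Submodule.smul_induction_on hy (fun a ha z _ => ?_) (fun u v hu hv => by rw [map_add]; exact add_mem hu hv)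
        rw [map_smul]
        exact Submodule.smul_mem_smul ha (ih z)
      exact Submodule.smul_mono (by rw [← pow_add]; exact Ideal.pow_le_pow_right (by omega)) le_rfl this
  have hstep : ∀ k, ∀ x, (e (k + 1) - e k) x ∈ I ^ (k + 1) • (⊤ : Submodule A P) := by
    intro k x
    have hs : e (k + 1) - e k = (e k ^ 2 - e k) * (1 - 2 * e k) := by
      simp only [e, Function.iterate_succ_apply']
      noncomm_ring
    rw [hs, Module.End.mul_apply]
    exact herr k _
  have hcauchy : ∀ m n, m ≤ n → ∀ x, (e n - e m) x ∈ I ^ m • (⊤ : Submodule A P) := by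
    intro m n hmn
    induction hmn with
    | refl => intro x; simp
    | @step n hmn ih =>
      intro x
      rw [show e (n + 1) - e m = (e (n + 1) - e n) + (e n - e m) by abel, LinearMap.add_apply]
      exact add_mem (Submodule.smul_mono (Ideal.pow_le_pow_right (le_trans hmn n.le_succ)) le_rfl (hstep n x)) (ih x)
  obtain ⟨r, φ, b, hb⟩ := exists_dualBasis (A := A) (P := P)
  have hlim : ∀ i j, ∃ a : A, ∀ k, φ j (e k (b i)) - a ∈ I ^ k := by
    intro i j
    obtain ⟨a, ha⟩ := IsPrecomplete.prec (I := I) (M := A) inferInstance (f := fun k => φ j (e k (b i))) (by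
      intro m n hmn
      rw [SModEq.sub_mem, smul_eq_mul, Ideal.mul_top, ← neg_mem_iff, neg_sub, ← map_sub, ← LinearMap.sub_apply]
      exact (mem_smul_top_iff_of_dualBasis φ b hb _ _).1 (hcauchy m n hmn (b i)) j)
    refine ⟨a, fun k => ?_⟩
    have := ha k
    rwa [SModEq.sub_mem, smul_eq_mul, Ideal.mul_top] at this
  choose a ha using hlim
  let el : Module.End A P := ∑ i, (φ i).smulRight (∑ j, a i j • b j)
  have hel : ∀ k x, el x - e k x ∈ I ^ k • (⊤ : Submodule A P) := by
    intro k x
    have hx : e k x = ∑ i, φ i x • ∑ j, φ j (e k (b i)) • b j := by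
      conv_lhs => rw [← hb x, map_sum]
      simp only [map_smul, hb]
    rw [hx]
    simp only [el, LinearMap.sum_apply, LinearMap.smulRight_apply, ← Finset.sum_sub_distrib, ← smul_sub,
      ← sub_smul]
    refine Submodule.sum_mem _ fun i _ => Submodule.smul_mem _ _ (Submodule.sum_mem _ fun j _ => ?_)
    exact Submodule.smul_mem_smul (by rw [← neg_sub]; exact neg_mem (ha i j k)) Submodule.mem_top
  have hidem : ∀ x, el (el x) = el x := by
    intro x
    rw [← hb (el (el x)), ← hb (el x)]
    refine Finset.sum_congr rfl fun i _ => congrArg (· • b i) ?_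
    rw [hb (el x)]
    refine (IsHausdorff.eq_iff_smodEq (I := I)).2 fun k => ?_
    rw [SModEq.sub_mem, smul_eq_mul, Ideal.mul_top, ← map_sub]
    refine (mem_smul_top_iff_of_dualBasis φ b hb _ _).1 ?_ i
    have h4 : el (el x) - el x =
        (el (el x) - e k (el x)) + e k (el x - e k x) + (e k ^ 2 - e k) x - (el x - e k x) := by
      simp only [map_sub, LinearMap.sub_apply, pow_two, Module.End.mul_apply]
      abel
    rw [h4]
    exact sub_mem (add_mem (add_mem (hel k _) (map_mem_smul_top (e k) (hel k x)))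
      (Submodule.smul_mono (Ideal.pow_le_pow_right k.le_succ) le_rfl (herr k x))) (hel k x)
  have hel0 : ∀ x, el x - e₀ x ∈ J := by
    intro x
    have h5 := hel 1 x
    rw [pow_one] at h5
    have h6 := hstep 0 x
    rw [zero_add, pow_one, LinearMap.sub_apply] at h6
    have := add_mem h5 h6
    rw [sub_add_sub_cancel] at this
    exact this
  have hQ : ∀ x, x ∈ Q ↔ x - el x ∈ J := by
    intro x
    have h3 : J.mkQ (el x) = Submodule.projection _ _ hcompl (J.mkQ x) :=
      ((Submodule.Quotient.eq J).2 (hel0 x)).trans (LinearMap.congr_fun he₀ x)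
    constructor
    · intro hx
      rw [← neg_sub, neg_mem_iff]
      refine (Submodule.Quotient.eq J).1 (h3.trans ?_)
      exact Submodule.projection_apply_left hcompl ⟨_, Submodule.mem_map_of_mem hx⟩
    · intro hx
      have h4 : J.mkQ (el x) ∈ Q.map J.mkQ := by
        rw [h3]
        exact (Submodule.range_projection hcompl).le (LinearMap.mem_range_self _ _)
      obtain ⟨q, hq, hqe⟩ := h4
      rw [show x = q + ((el x - q) + (x - el x)) by abel]
      exact Q.add_mem hq (hJQ (J.add_mem ((Submodule.Quotient.eq J).1 hqe.symm) hx))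
  have hcp : IsCompl (LinearMap.range el) (LinearMap.ker el) :=
    LinearMap.IsIdempotentElem.isCompl (f := el) (LinearMap.ext hidem)
  refine ⟨_, _, hcp, le_antisymm (fun x hx => ?_) (sup_le ?_ ?_)⟩
  · refine Submodule.mem_sup.2 ⟨el x, ⟨x, rfl⟩, x - el x, ?_, add_sub_cancel _ _⟩
    have h5 : (1 - el : Module.End A P) (x - el x) = x - el x := by simp [hidem]
    rw [← h5]
    have h6 := Submodule.mem_map_of_mem (f := (1 - el : Module.End A P)) ((hQ x).1 hx)
    rw [hJ, Submodule.map_smul'', Submodule.map_top] at h6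
    exact Submodule.smul_mono le_rfl (by rintro _ ⟨z, rfl⟩; simp [hidem]) h6
  · rintro _ ⟨y, rfl⟩
    exact (hQ _).2 (by rw [hidem, sub_self]; exact zero_mem _)
  · exact le_trans (Submodule.smul_mono le_rfl le_top) hJQ

end Groth.Misc5Disp
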