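import Groth.Agent.Misc5Disp.Iterate
import Groth.Agent.Misc5Disp.BaseChange
import Mathlib.RingTheory.Nilpotent.Basic

set_option autoImplicit false

universe u v v'

namespace Groth.Misc5Disp

open WittVector W4c1extbt610 Dieu

variable {p : ℕ} [hp : Fact p.Prime] {S : Type u} [CommRing S]
variable {P : Type v} [AddCommGroup P] [Module (WittVector p S) P]
variable {P' : Type v'} [AddCommGroup P'] [Module (WittVector p S) P']

local notation "fr" => WittVector.frobenius

theorem map_shift {R : Type u} [CommRing R] (f : S →+* R) (x : WittVector p S) :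
    WittVector.map f (x.shift 1) = (WittVector.map f x).shift 1 := by
  ext n
  simp [shift_coeff, WittVector.map_coeff]

theorem gMap_eq_sum [Module.Finite (WittVector p S) P] [Module.Projective (WittVector p S) P]
    (Φ : P →ₛₗ[(fr : WittVector p S →+* WittVector p S)] P)
    {ι : Type*} [Fintype ι] (φ : ι → (P →ₗ[WittVector p S] WittVector p S)) (e : ι → P)
    (he : ∀ y, ∑ i, φ i y • e i = y) (z : IVP p S P) :
    gMap Φ z = ∑ i, (φ i (z : P)).shift 1 • Φ (e i) := by
  induction z using IVP_induction with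
  | gen w x =>
    rw [gMap_V_smul]
    conv_lhs => rw [← he x, map_sum, Finset.smul_sum]
    refine Finset.sum_congr rfl fun i _ => ?_
    rw [map_smul (φ i), smul_eq_mul, map_smulₛₗ Φ, smul_smul, V_mul, shift_V]
  | add a b ha hb =>
    rw [map_add, ha, hb, ← Finset.sum_add_distrib]
    refine Finset.sum_congr rfl fun i _ => ?_
    rw [← add_smul]
    congr 1
    have ha' := mem_IV_iff.1 ((mem_smul_top_iff_of_dualBasis φ e he (IV p S) _).1 a.2 i)
    have hb' := mem_IV_iff.1 ((mem_smul_top_iff_of_dualBasis φ e he (IV p S) _).1 b.2 i)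
    have hab := mem_IV_iff.1 ((mem_smul_top_iff_of_dualBasis φ e he (IV p S) _).1 (a + b).2 i)
    apply verschiebung_injective (p := p) (R := S)
    rw [map_add (verschiebung (p := p) (R := S)), eq_V_shift ha', eq_V_shift hb', eq_V_shift hab]
    simp

theorem isHom_sub {D : Display3n p S P} {D' : Display3n p S P'} {ψ χ : P →ₗ[WittVector p S] P'}
    (hψ : IsHom D D' ψ) (hχ : IsHom D D' χ) : IsHom D D' (ψ - χ) where
  mapsTo q hq := D'.Q.sub_mem (hψ.mapsTo q hq) (hχ.mapsTo q hq)
  comm_F x := by rw [LinearMap.sub_apply, LinearMap.sub_apply, hψ.comm_F, hχ.comm_F, map_sub]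
  comm_Vinv q := by
    rw [LinearMap.sub_apply, hψ.comm_Vinv, hχ.comm_Vinv, ← map_sub]
    rfl

section SqZero

variable {𝔠 𝔠' : Ideal S} (h1 : 𝔠 * 𝔠 ≤ 𝔠') (h2 : ∀ b ∈ 𝔠, (p : S) * b ∈ 𝔠')
include h1

theorem mk_sq_zero : ∀ a ∈ 𝔠.map (Ideal.Quotient.mk 𝔠'), ∀ b ∈ 𝔠.map (Ideal.Quotient.mk 𝔠'), a * b = 0 := by
  intro a ha b hb
  obtain ⟨a, ha', rfl⟩ := (Ideal.mem_map_iff_of_surjective _ Ideal.Quotient.mk_surjective).1 ha
  obtain ⟨b, hb', rfl⟩ := (Ideal.mem_map_iff_of_surjective _ Ideal.Quotient.mk_surjective).1 hb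
  rw [← map_mul, Ideal.Quotient.eq_zero_iff_mem]
  exact h1 (Ideal.mul_mem_mul ha' hb')

omit h1 in
theorem map_mem_WI_map {x : WittVector p S} (hx : x ∈ WI (p := p) 𝔠) :
    WittVector.map (Ideal.Quotient.mk 𝔠') x ∈ WI (p := p) (𝔠.map (Ideal.Quotient.mk 𝔠')) :=
  mem_WI.2 fun n => by rw [WittVector.map_coeff]; exact Ideal.mem_map_of_mem _ (mem_WI.1 hx n)

theorem shift_add_sub_mem {a b : WittVector p S} (ha : a ∈ WI (p := p) 𝔠) (hb : b ∈ WI (p := p) 𝔠) :
    (a + b).shift 1 - (a.shift 1 + b.shift 1) ∈ WI (p := p) 𝔠' := by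
  rw [WI, RingHom.mem_ker, map_sub, map_add, map_shift, map_shift, map_shift, map_add,
    shift_add_of_sq_zero (mk_sq_zero h1) (map_mem_WI_map ha) (map_mem_WI_map hb), sub_self]

include h2

omit hp h1 in
theorem mk_p_zero : ∀ b ∈ 𝔠.map (Ideal.Quotient.mk 𝔠'), (p : S ⧸ 𝔠') * b = 0 := by
  intro b hb
  obtain ⟨b, hb', rfl⟩ := (Ideal.mem_map_iff_of_surjective _ Ideal.Quotient.mk_surjective).1 hb
  rw [← map_natCast (Ideal.Quotient.mk 𝔠'), ← map_mul, Ideal.Quotient.eq_zero_iff_mem]
  exact h2 _ hb'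

theorem shift_mul_sub_mem (c : WittVector p S) {a : WittVector p S} (ha : a ∈ WI (p := p) 𝔠) :
    (c * a).shift 1 - fr c * a.shift 1 ∈ WI (p := p) 𝔠' := by
  rw [WI, RingHom.mem_ker, map_sub, map_mul, map_shift, map_shift, map_mul, map_frobenius',
    shift_mul_of_sq_zero (mk_sq_zero h1) (mk_p_zero h2) _ (map_mem_WI_map ha), sub_self]

theorem nilIdeal_mul_WI_le : nilIdeal p S * WI (p := p) 𝔠 ≤ WI (p := p) 𝔠' := by
  rw [Ideal.mul_le]
  intro a ha b hb
  rw [WI, RingHom.mem_ker, map_mul]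
  refine mul_eq_zero_of_sq_zero (mk_sq_zero h1) (mk_p_zero h2) (map_mem_WI_map hb) ?_
  obtain ⟨u, hu, v, hv, rfl⟩ := Submodule.mem_sup.1 ha
  obtain ⟨d, rfl⟩ := Ideal.mem_span_singleton'.1 hv
  rw [map_add, map_mul, map_natCast]
  exact Submodule.add_mem_sup (map_mem_IV _ hu) (Ideal.mul_mem_left _ _ (Ideal.mem_span_singleton_self _))

theorem frobenius_mem_WI_of_sq {a : WittVector p S} (ha : a ∈ WI (p := p) 𝔠) : fr a ∈ WI (p := p) 𝔠' := by
  refine frobenius_mem_WI (fun b hb => ?_) h2 ha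
  obtain ⟨k, hk⟩ := Nat.exists_eq_add_of_le hp.out.two_le
  rw [hk, pow_add, pow_two]
  exact Ideal.mul_mem_right _ _ (h1 (Ideal.mul_mem_mul hb hb))

/-- a homomorphism out of a display with values in `W(𝔠)P'` has values in `W(𝔠')P'` -/
theorem mem_WI_smul_of_isHom {D : Display3n p S P} {D' : Display3n p S P'} (hD : IsDisplay D)
    {δ : P →ₗ[WittVector p S] P'} (hδ : IsHom D D' δ)
    (hin : ∀ x, δ x ∈ WI (p := p) 𝔠 • (⊤ : Submodule (WittVector p S) P')) (x : P) :
    δ x ∈ WI (p := p) 𝔠' • (⊤ : Submodule (WittVector p S) P') := by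
  have := D'.finite
  have := D'.projective
  obtain ⟨π, hπ, Φ, hΦ, hD'⟩ := exists_mk D'
  rw [hD'] at hδ
  obtain ⟨Vs, hVs, m, hm⟩ := hD
  obtain ⟨r, φ, e, he⟩ := exists_dualBasis (A := WittVector p S) (P := P')
  set N : Submodule (WittVector p S) P' := WI (p := p) 𝔠 • ⊤ with hN
  set N' : Submodule (WittVector p S) P' := WI (p := p) 𝔠' • ⊤ with hN'
  let ρ : Fin r → (P' →ₗ[WittVector p S] WittVector p S) := fun i => φ i ∘ₗ (LinearMap.id - π)
  have hρ : ∀ (z : N) i, ρ i z ∈ WI (p := p) 𝔠 := fun z i =>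
    (mem_smul_top_iff_of_dualBasis φ e he _ _).1 (map_mem_smul_top (LinearMap.id - π : P' →ₗ[WittVector p S] P') z.2) i
  let M := N ⧸ N'.comap N.subtype
  let E0 : N →ₛₗ[(fr : WittVector p S →+* WittVector p S)] M :=
    { toFun := fun z => (N'.comap N.subtype).mkQ ⟨∑ i, (ρ i z).shift 1 • Φ (e i),
        Submodule.sum_mem _ fun i _ => Submodule.smul_mem_smul (shift_mem_WI (hρ z i)) Submodule.mem_top⟩
      map_add' := fun a b => by
        rw [← map_add, Submodule.mkQ_apply, Submodule.mkQ_apply, Submodule.Quotient.eq, Submodule.mem_comap]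
        simp only [Submodule.subtype_apply, Submodule.coe_add, AddSubgroupClass.coe_sub, map_add]
        rw [← Finset.sum_add_distrib, ← Finset.sum_sub_distrib]
        refine Submodule.sum_mem _ fun i _ => ?_
        rw [← add_smul, ← sub_smul]
        exact Submodule.smul_mem_smul (shift_add_sub_mem h1 (hρ a i) (hρ b i)) Submodule.mem_top
      map_smul' := fun c a => by
        rw [← map_smul, Submodule.mkQ_apply, Submodule.mkQ_apply, Submodule.Quotient.eq, Submodule.mem_comap]
        simp only [Submodule.subtype_apply, Submodule.coe_smul, AddSubgroupClass.coe_sub, map_smul, smul_eq_mul]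
        rw [Finset.smul_sum, ← Finset.sum_sub_distrib]
        refine Submodule.sum_mem _ fun i _ => ?_
        rw [smul_smul, ← sub_smul]
        exact Submodule.smul_mem_smul (shift_mul_sub_mem h1 h2 c (hρ a i)) Submodule.mem_top }
  have hker : N'.comap N.subtype ≤ LinearMap.ker E0 := by
    intro z hz
    rw [LinearMap.mem_ker]
    refine (Submodule.Quotient.mk_eq_zero _).2 (Submodule.mem_comap.2 ?_)
    change (∑ i, (ρ i z).shift 1 • Φ (e i)) ∈ N'
    refine Submodule.sum_mem N' fun i _ => ?_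
    refine Submodule.smul_mem_smul (shift_mem_WI ?_) Submodule.mem_top
    exact (mem_smul_top_iff_of_dualBasis φ e he _ _).1
      (map_mem_smul_top (LinearMap.id - π : P' →ₗ[WittVector p S] P') (Submodule.mem_comap.1 hz)) i
  let E : M →ₛₗ[(fr : WittVector p S →+* WittVector p S)] M := (N'.comap N.subtype).liftQ E0 hker
  let δb : P →ₗ[WittVector p S] M := (N'.comap N.subtype).mkQ ∘ₗ δ.codRestrict N hin
  have base : ∀ x, BC.lift (fr : WittVector p S →+* WittVector p S) (E.comp δb) (Vs x) = δb x := by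
    intro x
    have hx : x ∈ Submodule.span (WittVector p S) (Set.range D.Vinv) := by rw [D.span_range_Vinv]; trivial
    induction hx using Submodule.span_induction with
    | mem y hy =>
      obtain ⟨⟨y, hy⟩, rfl⟩ := hy
      have hVy := hVs.app_smul_Vinv 1 ⟨y, hy⟩
      rw [one_smul] at hVy
      rw [hVy, BC.lift_tmul, one_smul]
      show E0 ⟨δ y, hin y⟩ = _
      refine (Submodule.Quotient.eq _).2 ?_
      rw [Submodule.mem_comap]
      show (∑ i, (ρ i (δ y)).shift 1 • Φ (e i)) - δ (D.Vinv ⟨y, hy⟩) ∈ N'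
      rw [hδ.comm_Vinv, mk_Vinv_apply, gMap_eq_sum Φ φ e he, sub_add_eq_sub_sub_swap]
      change ((∑ i, (φ i (δ y - π (δ y))).shift 1 • Φ (e i)) - _) - _ ∈ N'
      rw [sub_self, zero_sub]
      exact neg_mem (semilinear_mem_smul_top Φ (fun a ha => frobenius_mem_WI_of_sq h1 h2 ha)
        (map_mem_smul_top π (hin y)))
    | zero => simp only [map_zero]
    | add a b _ _ ha hb => simp only [map_add, ha, hb]
    | smul c a _ ha => simp only [map_smul, ha]
  have key : ∀ n : ℕ, ∃ ε : P →ₛₗ[frN p S (n + 1)] M, ∀ x, BC.lift _ ε (vSharpPow Vs n x) = δb x := by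
    intro n
    induction n with
    | zero =>
      refine ⟨recast (pow_one _).symm (E.comp δb), fun x => ?_⟩
      rw [vSharpPow_zero_apply]
      refine Eq.trans ?_ (base x)
      generalize Vs x = u
      induction u using BC.induction_on _ with
      | zero => simp
      | tmul w y => rw [BC.castHom_tmul, BC.lift_tmul, BC.lift_tmul, recast_apply]
      | add a b ha hb => simp only [map_add, ha, hb]
    | succ n ih =>
      obtain ⟨ε, hε⟩ := ih
      have ht : (fr : WittVector p S →+* WittVector p S).comp (frN p S (n + 1)) = frN p S (n + 2) :=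
        comp_pow_eq_pow_succ _ _
      have : RingHomCompTriple (frN p S (n + 1)) (fr : WittVector p S →+* WittVector p S) (frN p S (n + 2)) := ⟨ht⟩
      refine ⟨E.comp ε, fun x => ?_⟩
      rw [vSharpPow_succ']
      refine Eq.trans ?_ (base x)
      generalize Vs x = u
      induction u using BC.induction_on _ with
      | zero => simp
      | tmul w y =>
        rw [stepMap_tmul, map_smul, BC.lift_tmul, LinearMap.comp_apply, ← hε y]
        congr 1
        generalize vSharpPow Vs n y = v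
        induction v using BC.induction_on _ with
        | zero => simp only [map_zero]
        | tmul c t => rw [twist_tmul, BC.lift_tmul, BC.lift_tmul, map_smulₛₗ]; rfl
        | add a b ha hb => simp only [map_add, ha, hb]
      | add a b ha hb => simp only [map_add, ha, hb]
  obtain ⟨ε, hε⟩ := key m
  have h0 : δb x = 0 := by
    rw [← hε x]
    have h := map_mem_smul_top (BC.lift _ ε) (hm x)
    have hbot : nilIdeal p S • (⊤ : Submodule (WittVector p S) M) = ⊥ := by
      refine eq_bot_iff.2 (Submodule.smul_le.2 fun a ha z _ => ?_)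
      obtain ⟨⟨z, hz⟩, rfl⟩ := Submodule.Quotient.mk_surjective _ z
      rw [Submodule.mem_bot, ← Submodule.Quotient.mk_smul, Submodule.Quotient.mk_eq_zero, Submodule.mem_comap]
      have h3 : a • z ∈ nilIdeal p S • N := Submodule.smul_mem_smul ha hz
      rw [hN, ← Submodule.mul_smul] at h3
      exact Submodule.smul_mono (nilIdeal_mul_WI_le h1 h2) le_rfl h3
    rw [hbot] at h
    exact (Submodule.mem_bot _).1 h
  have h1 : (Submodule.Quotient.mk ⟨δ x, hin x⟩ : M) = 0 := h0
  exact (Submodule.Quotient.mk_eq_zero (N'.comap N.subtype)).1 h1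

end SqZero

/-- the filtration used for rigidity -/
noncomputable abbrev chain (p : ℕ) (𝔞 : Ideal S) (k : ℕ) : Ideal S :=
  𝔞 * (Ideal.span {(p : S)} ⊔ 𝔞) ^ k

omit hp in
theorem chain_le (𝔞 : Ideal S) (k : ℕ) : chain p 𝔞 k ≤ 𝔞 := Ideal.mul_le_left

omit hp in
theorem chain_mul_le (𝔞 : Ideal S) (k : ℕ) : chain p 𝔞 k * chain p 𝔞 k ≤ chain p 𝔞 (k + 1) := by
  calc chain p 𝔞 k * chain p 𝔞 k ≤ chain p 𝔞 k * (Ideal.span {(p : S)} ⊔ 𝔞) :=
        mul_le_mul' le_rfl ((chain_le 𝔞 k).trans le_sup_right)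
    _ = chain p 𝔞 (k + 1) := by rw [chain, chain, pow_succ, mul_assoc]

omit hp in
theorem p_mul_mem_chain (𝔞 : Ideal S) (k : ℕ) : ∀ b ∈ chain p 𝔞 k, (p : S) * b ∈ chain p 𝔞 (k + 1) := by
  intro b hb
  rw [chain, pow_succ, ← mul_assoc, mul_comm (p : S) b]
  exact Ideal.mul_mem_mul hb (Submodule.mem_sup_left (Ideal.mem_span_singleton_self _))

omit hp in
theorem exists_chain_eq_bot {𝔞 : Ideal S} (hpn : IsNilpotent (p : S)) (h𝔞 : IsNilpotent 𝔞) :
    ∃ K, chain p 𝔞 K = ⊥ := by
  obtain ⟨a, ha⟩ := hpn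
  have hsp : IsNilpotent (Ideal.span {(p : S)}) := ⟨a, by simp [Ideal.span_singleton_pow, ha]⟩
  obtain ⟨K, hK⟩ := (Commute.all (Ideal.span {(p : S)}) 𝔞).isNilpotent_add hsp h𝔞
  refine ⟨K, ?_⟩
  rw [chain, ← Submodule.add_eq_sup, hK, mul_zero, Submodule.zero_eq_bot]

theorem eq_zero_of_isHom {D : Display3n p S P} {D' : Display3n p S P'} (hpn : IsNilpotent (p : S))
    (hD : IsDisplay D) {δ : P →ₗ[WittVector p S] P'} (hδ : IsHom D D' δ) {𝔞 : Ideal S} (h𝔞 : IsNilpotent 𝔞)
    (hin : ∀ x, δ x ∈ WI (p := p) 𝔞 • (⊤ : Submodule (WittVector p S) P')) : δ = 0 := by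
  obtain ⟨K, hK⟩ := exists_chain_eq_bot hpn h𝔞
  have h : ∀ k x, δ x ∈ WI (p := p) (chain p 𝔞 k) • (⊤ : Submodule (WittVector p S) P') := by
    intro k
    induction k with
    | zero => intro x; simpa [chain] using hin x
    | succ k ih => exact mem_WI_smul_of_isHom (chain_mul_le 𝔞 k) (p_mul_mem_chain 𝔞 k) hD hδ ih
  refine LinearMap.ext fun x => ?_
  simpa [hK, WI_bot] using h K x

section BC

variable {R : Type u} [CommRing R] (f : S →+* R)

local notation "wm" => WittVector.map

theorem mem_WI_smul_of_ι_eq_zero [Module.Finite (WittVector p S) P'] [Module.Projective (WittVector p S) P'] {z : P'}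
    (hz : BC.tmul (wm f : WittVector p S →+* WittVector p R) 1 z = 0) :
    z ∈ WI (p := p) (RingHom.ker f) • (⊤ : Submodule (WittVector p S) P') := by
  obtain ⟨r, φ, e, he⟩ := exists_dualBasis (A := WittVector p S) (P := P')
  rw [mem_smul_top_iff_of_dualBasis φ e he]
  intro i
  rw [← ker_map, RingHom.mem_ker]
  have := congrArg (bcFun (wm f : WittVector p S →+* WittVector p R) (φ i)) hz
  simpa using this

theorem ι_surjective (hf : Function.Surjective f) :
    Function.Surjective (BC.ι (wm f : WittVector p S →+* WittVector p R) P') := by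
  intro z
  induction z using BC.induction_on _ with
  | zero => exact ⟨0, map_zero _⟩
  | tmul b x =>
    obtain ⟨a, rfl⟩ := WittVector.map_surjective f hf b
    exact ⟨a • x, by rw [BC.ι_apply, ← BC.tmul_apply_eq]⟩
  | add a b ha hb =>
    obtain ⟨a, rfl⟩ := ha
    obtain ⟨b, rfl⟩ := hb
    exact ⟨a + b, map_add _ a b⟩

theorem exists_mem_Q_of_tmul_mem {D' : Display3n p S P'}
    {DR' : Display3n p R (BC (wm f : WittVector p S →+* WittVector p R) P')} (hDR' : IsDispBaseChange f D' DR')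
    {z : P'} (hz : BC.tmul (wm f : WittVector p S →+* WittVector p R) 1 z ∈ DR'.Q) :
    ∃ q ∈ D'.Q, BC.tmul (wm f : WittVector p S →+* WittVector p R) 1 q = BC.tmul _ 1 z := by
  have := D'.finite
  have := D'.projective
  obtain ⟨π, hπ, Φ, hΦ, hD'⟩ := exists_mk D'
  have hQD : D'.Q = qOf π := congrArg Display3n.Q hD'
  have hb := bcMk_Q f π hπ Φ hΦ
  rw [← hQD, ← hDR'.Q_eq] at hb
  rw [← hb] at hz
  have hz1 : BC.tmul (wm f : WittVector p S →+* WittVector p R) 1 z - BC.map _ π (BC.tmul _ 1 z) ∈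
      IVP p R (BC (wm f : WittVector p S →+* WittVector p R) P') := hz
  obtain ⟨r, φ, e, he⟩ := exists_dualBasis (A := WittVector p S) (P := P')
  rw [IVP, mem_smul_top_iff_of_dualBasis _ _ (bc_dualBasis φ e he)] at hz1
  let a : Fin r → WittVector p S := fun i =>
    φ i (z - π z) - WittVector.teichmuller p ((φ i (z - π z)).coeff 0)
  have ha : ∀ i, a i ∈ IV p S := fun i => by
    rw [mem_IV_iff]
    change WittVector.constantCoeff (φ i (z - π z) - _) = 0
    rw [map_sub, sub_eq_zero]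
    exact (teichmuller_coeff_zero p _).symm
  have ha' : ∀ i, wm f (a i) = wm f (φ i (z - π z)) := fun i => by
    have h1 := mem_IV_iff.1 (hz1 i)
    rw [map_sub (bcFun _ (φ i)), BC.map_tmul, bcFun_tmul, bcFun_tmul, one_mul, one_mul, ← map_sub, ← map_sub,
      WittVector.map_coeff] at h1
    rw [map_sub, WittVector.map_teichmuller, h1, WittVector.teichmuller_zero, sub_zero]
  refine ⟨π z + ∑ i, a i • e i, ?_, ?_⟩
  · rw [hQD]
    refine add_mem ?_ (IVP_le_qOf π (Submodule.sum_mem _ fun i _ => Submodule.smul_mem_smul (ha i) Submodule.mem_top))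
    rw [mem_qOf, hπ, sub_self]
    exact zero_mem _
  · calc BC.tmul (wm f : WittVector p S →+* WittVector p R) 1 (π z + ∑ i, a i • e i)
        = BC.tmul _ 1 (π z) + ∑ i, wm f (φ i (z - π z)) • BC.tmul _ 1 (e i) := by
          rw [BC.tmul_add, tmul_sum]
          exact congrArg _ (Finset.sum_congr rfl fun i _ => by rw [tmul_smul, ha'])
      _ = BC.tmul _ 1 (π z) + BC.tmul _ 1 (z - π z) := by
          conv_rhs => rw [← he (z - π z), tmul_sum]
          exact congrArg _ (Finset.sum_congr rfl fun i _ => by rw [tmul_smul])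
      _ = _ := by rw [← BC.tmul_add, add_sub_cancel]

/-- homomorphisms lift along a nilpotent thickening up to a power of `p` -/
theorem exists_isHom_lift (hpn : IsNilpotent (p : S)) (hf : Function.Surjective f)
    (hker : IsNilpotent (RingHom.ker f)) {D : Display3n p S P} {D' : Display3n p S P'}
    {DR : Display3n p R (BC (wm f : WittVector p S →+* WittVector p R) P)} (hDR : IsDispBaseChange f D DR)
    {DR' : Display3n p R (BC (wm f : WittVector p S →+* WittVector p R) P')} (hDR' : IsDispBaseChange f D' DR')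
    {χ : BC (wm f : WittVector p S →+* WittVector p R) P →ₗ[WittVector p R]
      BC (wm f : WittVector p S →+* WittVector p R) P'} (hχ : IsHom DR DR' χ) :
    ∃ (n : ℕ) (ψ : P →ₗ[WittVector p S] P'), IsHom D D' ψ ∧
      BC.map (wm f : WittVector p S →+* WittVector p R) ψ = ((p : WittVector p R) ^ n) • χ := by
  have := D.finite
  have := D.projective
  have := D'.finite
  have := D'.projective
  obtain ⟨r, φ, e, he⟩ := exists_dualBasis (A := WittVector p S) (P := P)
  choose z hz using fun i => ι_surjective (P' := P') f hf (χ (BC.tmul _ 1 (e i)))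
  simp only [BC.ι_apply] at hz
  let ψ₀ : P →ₗ[WittVector p S] P' := ∑ i, (φ i).smulRight (z i)
  have hψ₀ : ∀ y, BC.tmul (wm f : WittVector p S →+* WittVector p R) 1 (ψ₀ y) = χ (BC.tmul _ 1 y) := by
    intro y
    conv_rhs => rw [← he y, tmul_sum, map_sum]
    simp only [ψ₀, LinearMap.sum_apply, LinearMap.smulRight_apply, tmul_sum, tmul_smul, map_smul, hz]
  let J : ℕ → Submodule (WittVector p S) P' := fun k => WI (p := p) (chain p (RingHom.ker f) k) • ⊤
  have step : ∀ k, ∀ v ∈ J k, (p : WittVector p S) • v ∈ J (k + 1) := by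
    intro k v hv
    have h : (p : WittVector p S) • v ∈ nilIdeal p S • J k :=
      Submodule.smul_mem_smul (Submodule.mem_sup_right (Ideal.mem_span_singleton_self _)) hv
    rw [← Submodule.mul_smul] at h
    exact Submodule.smul_mono (nilIdeal_mul_WI_le (chain_mul_le _ k) (p_mul_mem_chain _ k)) le_rfl h
  have hJ0 : J 0 = WI (p := p) (RingHom.ker f) • ⊤ := by simp [J, chain]
  have key : ∀ k, (∀ x, ((p : WittVector p S) ^ k • ψ₀) (D.F x) - D'.F (((p : WittVector p S) ^ k • ψ₀) x) ∈ J k) ∧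
      ∀ y : D.Q, ∃ q : D'.Q, ((p : WittVector p S) ^ k • ψ₀) y - q ∈ J k ∧
        ((p : WittVector p S) ^ k • ψ₀) (D.Vinv y) - D'.Vinv q ∈ J k := by
    intro k
    induction k with
    | zero =>
      simp only [pow_zero, one_smul, hJ0]
      refine ⟨fun x => mem_WI_smul_of_ι_eq_zero f ?_, fun y => ?_⟩
      · have h1 := hχ.comm_F (BC.tmul _ 1 x)
        rw [hDR.F_tmul, map_one, ← hψ₀, ← hψ₀, hDR'.F_tmul, map_one] at h1
        rw [← BC.ι_apply (wm f : WittVector p S →+* WittVector p R), map_sub, BC.ι_apply, BC.ι_apply, h1, sub_self]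
      · have hy : BC.tmul (wm f : WittVector p S →+* WittVector p R) 1 (y : P) ∈ DR.Q := by
          rw [hDR.Q_eq, LinearMap.mem_ker, bcQuotMap_tmul, Submodule.mkQ_apply,
            (Submodule.Quotient.mk_eq_zero _).2 y.2, BC.tmul_zero]
        have h0 := hχ.mapsTo _ hy
        rw [← hψ₀] at h0
        obtain ⟨q, hq, hqz⟩ := exists_mem_Q_of_tmul_mem f hDR' h0
        refine ⟨⟨q, hq⟩, mem_WI_smul_of_ι_eq_zero f ?_, mem_WI_smul_of_ι_eq_zero f ?_⟩
        · rw [← BC.ι_apply (wm f : WittVector p S →+* WittVector p R), map_sub, BC.ι_apply, BC.ι_apply, ← hqz,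
            sub_self]
        · have hm : BC.tmul (wm f : WittVector p S →+* WittVector p R) 1 q ∈ DR'.Q := hqz.symm ▸ h0
          have h1 := hχ.comm_Vinv ⟨_, hy⟩
          rw [hDR.Vinv_tmul 1 y hy, map_one, ← hψ₀] at h1
          have h2 := hDR'.Vinv_tmul 1 ⟨q, hq⟩ hm
          rw [map_one] at h2
          have h3 : DR'.Vinv ⟨χ (BC.tmul _ 1 (y : P)), hχ.mapsTo _ hy⟩ = DR'.Vinv ⟨_, hm⟩ :=
            congrArg _ (Subtype.ext ((hψ₀ _).symm.trans hqz.symm))
          rw [← BC.ι_apply (wm f : WittVector p S →+* WittVector p R), map_sub, BC.ι_apply, BC.ι_apply, h1, h3, h2,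
            sub_self]
    | succ k ih =>
      have hpk : ∀ u : P, ((p : WittVector p S) ^ (k + 1) • ψ₀) u =
          (p : WittVector p S) • ((p : WittVector p S) ^ k • ψ₀) u := fun u => by
        rw [pow_succ', mul_smul, LinearMap.smul_apply]
      refine ⟨fun x => ?_, fun y => ?_⟩
      · rw [hpk, hpk, map_smulₛₗ D'.F, map_natCast, ← smul_sub]
        exact step k _ (ih.1 x)
      · obtain ⟨q, hq1, hq2⟩ := ih.2 y
        refine ⟨(p : WittVector p S) • q, ?_, ?_⟩
        · rw [hpk, Submodule.coe_smul, ← smul_sub]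
          exact step k _ hq1
        · rw [hpk, map_smulₛₗ D'.Vinv, map_natCast, ← smul_sub]
          exact step k _ hq2
  obtain ⟨K, hK⟩ := exists_chain_eq_bot hpn hker
  have hJK : J K = ⊥ := by simp [J, hK, WI_bot]
  obtain ⟨hF, hV⟩ := key K
  simp only [hJK, Submodule.mem_bot, sub_eq_zero] at hF hV
  have hmaps : ∀ q : P, q ∈ D.Q → ((p : WittVector p S) ^ K • ψ₀) q ∈ D'.Q := fun q hq => by
    obtain ⟨q', h, -⟩ := hV ⟨q, hq⟩
    exact h ▸ q'.2
  refine ⟨K, (p : WittVector p S) ^ K • ψ₀, ⟨hmaps, hF, fun y => ?_⟩, BC.ext _ fun x => ?_⟩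
  · obtain ⟨q', h, h'⟩ := hV y
    rw [h']
    exact congrArg _ (Subtype.ext h.symm)
  · rw [BC.map_tmul, LinearMap.smul_apply, tmul_smul, hψ₀, map_pow, map_natCast, LinearMap.smul_apply]

end BC

end Groth.Misc5Disp
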