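import Groth.Prelude.Def_W4c1extbt610Disp
import Mathlib.RingTheory.WittVector.Complete
import Mathlib.RingTheory.WittVector.Frobenius
import Mathlib.RingTheory.WittVector.InitTail
import Mathlib.RingTheory.WittVector.Truncated
import Mathlib.RingTheory.AdicCompletion.Basic
import Mathlib.RingTheory.Nilpotent.Defs
import Mathlib.RingTheory.Ideal.Quotient.Operations

set_option autoImplicit false

universe u

namespace Groth.Misc5Disp

open WittVector W4c1extbt610

variable {p : ℕ} [hp : Fact p.Prime] {R S : Type u} [CommRing R] [CommRing S]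

local notation "σ" => (WittVector.frobenius : WittVector p R →+* WittVector p R)

theorem V_mul (a b : WittVector p R) :
    verschiebung a * b = verschiebung (a * frobenius b) := (verschiebung_mul_frobenius a b).symm

theorem mul_V (a b : WittVector p R) :
    a * verschiebung b = verschiebung (frobenius a * b) := by
  rw [mul_comm a, V_mul, mul_comm b]

theorem V_mul_V (a b : WittVector p R) :
    verschiebung a * verschiebung b = (p : WittVector p R) * verschiebung (a * b) := by
  rw [V_mul, frobenius_verschiebung, mul_V (p : WittVector p R), map_natCast]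
  congr 1; ring

theorem eq_V_shift {x : WittVector p R} (h : x.coeff 0 = 0) : verschiebung (x.shift 1) = x := by
  have := verschiebung_shift x 0 (fun i hi => by obtain rfl : i = 0 := by omega
                                                 exact h)
  rw [this]
  ext n
  simp [shift_coeff]

theorem V_coeff_zero (x : WittVector p R) : (verschiebung x).coeff 0 = 0 := verschiebung_coeff_zero x

theorem shift_V (x : WittVector p R) : (verschiebung x).shift 1 = x := by
  ext n
  rw [shift_coeff, Nat.add_comm]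
  exact verschiebung_coeff_succ x n

theorem mem_IV_iff {x : WittVector p R} : x ∈ IV p R ↔ x.coeff 0 = 0 := by
  constructor
  · intro h
    have : IV p R ≤ RingHom.ker (constantCoeff : WittVector p R →+* R) := by
      refine Ideal.span_le.2 ?_
      rintro _ ⟨y, rfl⟩
      exact V_coeff_zero y
    exact this h
  · intro h
    rw [← eq_V_shift h]
    exact verschiebung_mem_IV p R _

theorem IV_eq_ker : IV p R = RingHom.ker (constantCoeff : WittVector p R →+* R) :=
  Ideal.ext fun _ => mem_IV_iff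

theorem exists_V_of_mem_IV {x : WittVector p R} (h : x ∈ IV p R) : ∃ w, verschiebung w = x :=
  ⟨_, eq_V_shift (mem_IV_iff.1 h)⟩

theorem frobenius_V (x : WittVector p R) : frobenius (verschiebung x) = (p : WittVector p R) * x := by
  rw [frobenius_verschiebung, mul_comm]

theorem frobenius_mem_span_p {x : WittVector p R} (h : x ∈ IV p R) :
    frobenius x ∈ Ideal.span {(p : WittVector p R)} := by
  obtain ⟨w, rfl⟩ := exists_V_of_mem_IV h
  rw [frobenius_V]
  exact Ideal.mul_mem_right _ _ (Ideal.mem_span_singleton_self _)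

theorem map_V (f : R →+* S) (x : WittVector p R) :
    WittVector.map f (verschiebung x) = verschiebung (WittVector.map f x) :=
  WittVector.map_verschiebung f x

theorem map_frobenius' (f : R →+* S) (x : WittVector p R) :
    WittVector.map f (frobenius x) = frobenius (WittVector.map f x) := by
  ext n
  rw [WittVector.map_coeff, coeff_frobenius, coeff_frobenius, MvPolynomial.aeval_def,
    MvPolynomial.aeval_def, MvPolynomial.eval₂_comp_left f]
  congr 1
  exact RingHom.ext_int _ _

theorem map_mem_IV (f : R →+* S) {x : WittVector p R} (h : x ∈ IV p R) :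
    WittVector.map f x ∈ IV p S := by
  rw [mem_IV_iff] at h ⊢
  rw [WittVector.map_coeff, h, map_zero]

/-- Witt vectors with all coefficients in an ideal. -/
noncomputable def WI (𝔟 : Ideal R) : Ideal (WittVector p R) := RingHom.ker (WittVector.map (Ideal.Quotient.mk 𝔟))

theorem mem_WI {𝔟 : Ideal R} {x : WittVector p R} : x ∈ WI (p := p) 𝔟 ↔ ∀ n, x.coeff n ∈ 𝔟 := by
  simp only [WI, RingHom.mem_ker, WittVector.ext_iff, WittVector.map_coeff, WittVector.zero_coeff,
    Ideal.Quotient.eq_zero_iff_mem]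

theorem WI_mono {𝔟 𝔟' : Ideal R} (h : 𝔟 ≤ 𝔟') : WI (p := p) 𝔟 ≤ WI 𝔟' := fun x hx =>
  mem_WI.2 fun n => h (mem_WI.1 hx n)

theorem WI_bot : WI (p := p) (⊥ : Ideal R) = ⊥ := by
  refine eq_bot_iff.2 fun x hx => ?_
  rw [Ideal.mem_bot]
  ext n
  simpa using mem_WI.1 hx n

theorem shift_mem_WI {𝔟 : Ideal R} {x : WittVector p R} (h : x ∈ WI (p := p) 𝔟) :
    x.shift 1 ∈ WI (p := p) 𝔟 := mem_WI.2 fun n => by rw [shift_coeff]; exact mem_WI.1 h _

theorem ker_map (f : R →+* S) :
    RingHom.ker (WittVector.map (p := p) f) = WI (p := p) (RingHom.ker f) := by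
  ext x
  simp only [mem_WI, RingHom.mem_ker, WittVector.ext_iff, WittVector.map_coeff, WittVector.zero_coeff]

theorem constantCoeff_frobeniusPolyAux (n : ℕ) :
    MvPolynomial.aeval (fun _ => (0 : ℤ)) (WittVector.frobeniusPolyAux p n) = 0 := by
  have h := coeff_frobenius (p := p) (0 : WittVector p ℤ) n
  rw [map_zero, WittVector.zero_coeff, WittVector.frobeniusPoly, map_add, map_mul, map_pow,
    MvPolynomial.aeval_X, MvPolynomial.aeval_C, WittVector.zero_coeff, zero_pow hp.out.ne_zero,
    zero_add] at h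
  have hc : (0 : WittVector p ℤ).coeff = fun _ => 0 := funext fun _ => WittVector.zero_coeff p ℤ _
  rw [hc] at h
  exact (mul_eq_zero.1 h.symm).resolve_left (by simp [hp.out.ne_zero])

/-- `σ` maps `W(𝔟)` to `W(𝔟')` if `𝔟` has `p`-th powers and `p`-multiples in `𝔟'`. -/
theorem frobenius_mem_WI {𝔟 𝔟' : Ideal R} (h1 : ∀ b ∈ 𝔟, b ^ p ∈ 𝔟') (h2 : ∀ b ∈ 𝔟, (p : R) * b ∈ 𝔟')
    {x : WittVector p R} (hx : x ∈ WI (p := p) 𝔟) : frobenius x ∈ WI (p := p) 𝔟' := by
  refine mem_WI.2 fun n => ?_
  rw [coeff_frobenius, WittVector.frobeniusPoly, map_add, map_mul, map_pow, MvPolynomial.aeval_X,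
    MvPolynomial.aeval_C]
  refine 𝔟'.add_mem (h1 _ (mem_WI.1 hx n)) ?_
  have key : MvPolynomial.aeval x.coeff (WittVector.frobeniusPolyAux p n) ∈ 𝔟 := by
    rw [← Ideal.Quotient.eq_zero_iff_mem, ← RingHom.toIntAlgHom_apply, ← AlgHom.comp_apply,
      MvPolynomial.comp_aeval]
    have hz : (fun i => (Ideal.Quotient.mk 𝔟).toIntAlgHom (x.coeff i)) =
        (algebraMap ℤ (R ⧸ 𝔟)) ∘ fun _ => (0 : ℤ) := by
      funext i
      simpa [Ideal.Quotient.eq_zero_iff_mem] using mem_WI.1 hx i
    rw [hz, MvPolynomial.aeval_algebraMap_apply, constantCoeff_frobeniusPolyAux, map_zero]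
  simpa using h2 _ key

/-- iterates of `σ` kill `W(𝔟)` for a bounded-exponent nil ideal when `p` is nilpotent. -/
theorem exists_iterate_frobenius_eq_zero (hpn : IsNilpotent (p : R)) (𝔟 : Ideal R) (N : ℕ)
    (hN : ∀ a ∈ 𝔟, a ^ N = 0) :
    ∃ K : ℕ, ∀ x ∈ WI (p := p) 𝔟, (⇑(WittVector.frobenius (p := p) (R := R)))^[K] x = 0 := by
  obtain ⟨e, he⟩ := hpn
  let P : ℕ → Ideal R := fun m => Ideal.span {(p : R) ^ m}
  -- first land in the multiples of `p`
  have step1 : ∀ x ∈ WI (p := p) 𝔟, (⇑(WittVector.frobenius (p := p) (R := R)))^[N] x ∈ WI (p := p) (P 1) := by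
    intro x hx
    have key : ∀ k, ∀ n, Ideal.Quotient.mk (P 1) (((⇑(WittVector.frobenius (p := p) (R := R)))^[k] x).coeff n) =
        (Ideal.Quotient.mk (P 1) (x.coeff n)) ^ p ^ k := by
      intro k
      induction k with
      | zero => simp
      | succ k ih =>
        intro n
        rw [Function.iterate_succ_apply', coeff_frobenius, WittVector.frobeniusPoly, map_add, map_add,
          map_mul, map_mul, map_pow, map_pow, MvPolynomial.aeval_X, ih, MvPolynomial.aeval_C]
        have : Ideal.Quotient.mk (P 1) (algebraMap ℤ R (p : ℤ)) = 0 := by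
          rw [Ideal.Quotient.eq_zero_iff_mem]
          simp only [P, pow_one, map_natCast]
          exact Ideal.mem_span_singleton_self _
        rw [this, zero_mul, add_zero, ← pow_mul, ← pow_succ]
    refine mem_WI.2 fun n => ?_
    rw [← Ideal.Quotient.eq_zero_iff_mem, key, ← map_pow]
    have hle : N ≤ p ^ N := (Nat.lt_pow_self hp.out.one_lt).le
    rw [show x.coeff n ^ p ^ N = 0 from pow_eq_zero_of_le hle (hN _ (mem_WI.1 hx n)), map_zero]
  have step2 : ∀ k, ∀ x ∈ WI (p := p) (P 1),
      (⇑(WittVector.frobenius (p := p) (R := R)))^[k] x ∈ WI (p := p) (P (k + 1)) := by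
    intro k
    induction k with
    | zero => intro x hx; simpa using hx
    | succ k ih =>
      intro x hx
      rw [Function.iterate_succ_apply']
      refine frobenius_mem_WI (fun b hb => ?_) (fun b hb => ?_) (ih x hx)
      · obtain ⟨c, rfl⟩ := Ideal.mem_span_singleton.1 hb
        refine Ideal.mem_span_singleton.2 ?_
        rw [mul_pow, ← pow_mul]
        refine Dvd.dvd.mul_right (pow_dvd_pow _ ?_) _
        have := hp.out.two_le
        nlinarith
      · obtain ⟨c, rfl⟩ := Ideal.mem_span_singleton.1 hb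
        exact Ideal.mem_span_singleton.2 ⟨c, by ring⟩
  refine ⟨e + N, fun x hx => ?_⟩
  have h := step2 e _ (step1 x hx)
  rw [← Function.iterate_add_apply] at h
  have hbot : P (e + 1) = ⊥ := by simp [P, pow_succ, he]
  rw [hbot, WI_bot, Ideal.mem_bot] at h
  exact h

/-- evaluation of integral polynomials is affine on a square-zero ideal -/
theorem aeval_add_of_sq_zero {τ : Type*} {𝔟 : Ideal R} (h : ∀ a ∈ 𝔟, ∀ b ∈ 𝔟, a * b = 0)
    (P : MvPolynomial τ ℤ) (u v : τ → R) (hu : ∀ i, u i ∈ 𝔟) (hv : ∀ i, v i ∈ 𝔟) :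
    MvPolynomial.aeval (u + v) P + MvPolynomial.aeval (0 : τ → R) P =
        MvPolynomial.aeval u P + MvPolynomial.aeval v P := by
  suffices H : MvPolynomial.aeval (u + v) P + MvPolynomial.aeval (0 : τ → R) P =
        MvPolynomial.aeval u P + MvPolynomial.aeval v P ∧
      MvPolynomial.aeval u P - MvPolynomial.aeval (0 : τ → R) P ∈ 𝔟 ∧
      MvPolynomial.aeval v P - MvPolynomial.aeval (0 : τ → R) P ∈ 𝔟 from H.1
  induction P using MvPolynomial.induction_on with
  | C a => simp
  | add P Q hP hQ =>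
    simp only [map_add]
    refine ⟨by linear_combination hP.1 + hQ.1, ?_, ?_⟩
    · rw [add_sub_add_comm]; exact 𝔟.add_mem hP.2.1 hQ.2.1
    · rw [add_sub_add_comm]; exact 𝔟.add_mem hP.2.2 hQ.2.2
  | mul_X P i hP =>
    simp only [map_mul, MvPolynomial.aeval_X, Pi.add_apply, Pi.zero_apply, mul_zero, add_zero, sub_zero]
    have h1 := h _ hP.2.1 _ (hv i)
    have h2 := h _ hP.2.2 _ (hu i)
    refine ⟨?_, 𝔟.mul_mem_left _ (hu i), 𝔟.mul_mem_left _ (hv i)⟩
    linear_combination (u i + v i) * hP.1 + h1 + h2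

/-- on a square-zero ideal Witt vectors add componentwise -/
theorem coeff_add_of_sq_zero {𝔟 : Ideal R} (h : ∀ a ∈ 𝔟, ∀ b ∈ 𝔟, a * b = 0)
    {x y : WittVector p R} (hx : x ∈ WI (p := p) 𝔟) (hy : y ∈ WI (p := p) 𝔟) (n : ℕ) :
    (x + y).coeff n = x.coeff n + y.coeff n := by
  have key : ∀ a b : WittVector p R, (a + b).coeff n =
      MvPolynomial.aeval (Function.uncurry ![a.coeff, b.coeff]) (WittVector.wittAdd p n) :=
    fun a b => WittVector.add_coeff a b n
  have hxu : Function.uncurry ![x.coeff, y.coeff] =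
      Function.uncurry ![x.coeff, (0 : WittVector p R).coeff] +
        Function.uncurry ![(0 : WittVector p R).coeff, y.coeff] := by
    funext ⟨a, i⟩
    fin_cases a <;> simp [Function.uncurry]
  have h0 : Function.uncurry ![(0 : WittVector p R).coeff, (0 : WittVector p R).coeff] = 0 := by
    funext ⟨a, i⟩
    fin_cases a <;> simp [Function.uncurry]
  have := aeval_add_of_sq_zero h (WittVector.wittAdd p n)
    (Function.uncurry ![x.coeff, (0 : WittVector p R).coeff])
    (Function.uncurry ![(0 : WittVector p R).coeff, y.coeff])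
    (fun ⟨a, i⟩ => by fin_cases a <;> simp [Function.uncurry, mem_WI.1 hx i])
    (fun ⟨a, i⟩ => by fin_cases a <;> simp [Function.uncurry, mem_WI.1 hy i])
  rw [← hxu, ← h0, ← key, ← key, ← key, ← key] at this
  simpa using this

theorem shift_add_of_sq_zero {𝔟 : Ideal R} (h : ∀ a ∈ 𝔟, ∀ b ∈ 𝔟, a * b = 0)
    {x y : WittVector p R} (hx : x ∈ WI (p := p) 𝔟) (hy : y ∈ WI (p := p) 𝔟) :
    (x + y).shift 1 = x.shift 1 + y.shift 1 := by
  ext n
  rw [shift_coeff, coeff_add_of_sq_zero h hx hy, coeff_add_of_sq_zero h (shift_mem_WI hx) (shift_mem_WI hy),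
    shift_coeff, shift_coeff]

theorem frobenius_eq_zero_of_sq_zero {𝔟 : Ideal R} (h : ∀ a ∈ 𝔟, ∀ b ∈ 𝔟, a * b = 0)
    (h2 : ∀ b ∈ 𝔟, (p : R) * b = 0) {x : WittVector p R} (hx : x ∈ WI (p := p) 𝔟) : frobenius x = 0 := by
  have h1 : ∀ b ∈ 𝔟, b ^ p ∈ (⊥ : Ideal R) := fun b hb => by
    obtain ⟨k, hk⟩ := Nat.exists_eq_add_of_le hp.out.two_le
    rw [Ideal.mem_bot, hk, pow_add, pow_two, h b hb b hb, zero_mul]
  have := frobenius_mem_WI h1 (fun b hb => by rw [Ideal.mem_bot]; exact h2 b hb) hx
  rwa [WI_bot, Ideal.mem_bot] at this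

/-- `(IV + p W) · W(𝔟) = 0` for a square-zero ideal killed by `p` -/
theorem mul_eq_zero_of_sq_zero {𝔟 : Ideal R} (h : ∀ a ∈ 𝔟, ∀ b ∈ 𝔟, a * b = 0)
    (h2 : ∀ b ∈ 𝔟, (p : R) * b = 0) {x : WittVector p R} (hx : x ∈ WI (p := p) 𝔟)
    {a : WittVector p R} (ha : a ∈ IV p R ⊔ Ideal.span {(p : WittVector p R)}) : a * x = 0 := by
  obtain ⟨b, hb, c, hc, rfl⟩ := Submodule.mem_sup.1 ha
  obtain ⟨w, rfl⟩ := exists_V_of_mem_IV hb
  obtain ⟨d, rfl⟩ := Ideal.mem_span_singleton'.1 hc
  have hVx : verschiebung x ∈ WI (p := p) 𝔟 := mem_WI.2 fun n => by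
    cases n with
    | zero => rw [verschiebung_coeff_zero]; exact zero_mem _
    | succ n => rw [verschiebung_coeff_succ]; exact mem_WI.1 hx n
  rw [add_mul, V_mul, frobenius_eq_zero_of_sq_zero h h2 hx, mul_zero, map_zero, mul_assoc, ← frobenius_V,
    frobenius_eq_zero_of_sq_zero h h2 hVx, mul_zero, add_zero]

theorem shift_mul_of_sq_zero {𝔟 : Ideal R} (h : ∀ a ∈ 𝔟, ∀ b ∈ 𝔟, a * b = 0)
    (h2 : ∀ b ∈ 𝔟, (p : R) * b = 0) (a : WittVector p R) {x : WittVector p R}
    (hx : x ∈ WI (p := p) 𝔟) : (a * x).shift 1 = frobenius a * x.shift 1 := by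
  have ht : WittVector.teichmuller p (x.coeff 0) ∈ WI (p := p) 𝔟 := mem_WI.2 fun n => by
    cases n with
    | zero => rw [teichmuller_coeff_zero]; exact mem_WI.1 hx 0
    | succ n => rw [teichmuller_coeff_pos _ _ _ n.succ_pos]; exact zero_mem _
  have hV : verschiebung (x.shift 1) ∈ WI (p := p) 𝔟 := mem_WI.2 fun n => by
    cases n with
    | zero => rw [verschiebung_coeff_zero]; exact zero_mem _
    | succ n => rw [verschiebung_coeff_succ]; exact mem_WI.1 (shift_mem_WI hx) n
  have hdec : x = WittVector.teichmuller p (x.coeff 0) + verschiebung (x.shift 1) := by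
    ext n
    rw [coeff_add_of_sq_zero h ht hV]
    cases n with
    | zero => rw [teichmuller_coeff_zero, verschiebung_coeff_zero, add_zero]
    | succ n =>
      rw [teichmuller_coeff_pos _ _ _ n.succ_pos, verschiebung_coeff_succ, zero_add, shift_coeff, add_comm 1 n]
  have hat : a * WittVector.teichmuller p (x.coeff 0) = WittVector.teichmuller p (a.coeff 0 * x.coeff 0) := by
    have ha : verschiebung ((a - WittVector.teichmuller p (a.coeff 0)).shift 1) = a - WittVector.teichmuller p (a.coeff 0) := by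
      refine eq_V_shift ?_
      change WittVector.constantCoeff (a - WittVector.teichmuller p (a.coeff 0)) = 0
      rw [map_sub, sub_eq_zero]
      exact (teichmuller_coeff_zero p _).symm
    have h0 : (a - WittVector.teichmuller p (a.coeff 0)) * WittVector.teichmuller p (x.coeff 0) = 0 := by
      rw [← ha, V_mul, frobenius_eq_zero_of_sq_zero h h2 ht, mul_zero, map_zero]
    rw [sub_mul, sub_eq_zero] at h0
    rw [h0, map_mul]
  conv_lhs => rw [hdec, mul_add, hat, mul_V]
  have hax : WittVector.teichmuller p (a.coeff 0 * x.coeff 0) ∈ WI (p := p) 𝔟 :=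
    hat ▸ Ideal.mul_mem_left _ _ ht
  have hVs : verschiebung (frobenius a * x.shift 1) ∈ WI (p := p) 𝔟 :=
    mul_V a (x.shift 1) ▸ Ideal.mul_mem_left _ _ hV
  rw [shift_add_of_sq_zero h hax hVs, shift_V]
  have : (WittVector.teichmuller p (a.coeff 0 * x.coeff 0)).shift 1 = 0 := by
    ext n
    rw [shift_coeff, teichmuller_coeff_pos _ _ _ (by omega), WittVector.zero_coeff]
  rw [this, zero_add]

end Groth.Misc5Disp
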